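import Cfsg.Agent.Lib.Orth52.Spinor
import Cfsg.Agent.Lib.Elusive.SympPieces

/-!
Subspaces of a quadratic space of odd characteristic and membership in the commutator subgroup of
the orthogonal group.
Owner: helper88.
-/

set_option autoImplicit false

namespace Cfsg.Agent.Lib.Elusive.ExtFieldOrth

open Module QuadraticMap Cfsg.Agent.Lib.Forms Cfsg.Agent.Lib.Orth52

variable {F : Type*} [Field F] {V : Type*} [AddCommGroup V] [Module F V]

/-- The orthogonal of a subspace. -/
def perp (Q : QuadraticForm F V) (W : Submodule F V) : Submodule F V :=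
  ⨅ w : W, LinearMap.ker (polarBilin Q (w : V))

theorem mem_perp {Q : QuadraticForm F V} {W : Submodule F V} {x : V} :
    x ∈ perp Q W ↔ ∀ w ∈ W, polar Q w x = 0 := by
  simp [perp, Submodule.mem_iInf]

/-- The polar form is non-degenerate on a subspace. -/
def Nd (Q : QuadraticForm F V) (W : Submodule F V) : Prop :=
  ∀ x ∈ W, (∀ y ∈ W, polar Q x y = 0) → x = 0

variable {Q : QuadraticForm F V} {W X : Submodule F V}

theorem nd_top (hQ : Forms.Nondeg Q) : Nd Q ⊤ := fun x _ hx => hQ x fun y => hx y trivial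

theorem res_nondeg (hW : Nd Q W) : Forms.Nondeg (res Q W) := fun x hx =>
  Subtype.ext (hW x x.2 fun y hy => by simpa [res_polar] using hx ⟨y, hy⟩)

theorem nd_iff_inf_perp : Nd Q W ↔ W ⊓ perp Q W = ⊥ := by
  rw [Submodule.eq_bot_iff]
  constructor
  · rintro h x ⟨hx, hx'⟩
    exact h x hx fun y hy => (polar_comm Q x y).trans (mem_perp.mp hx' y hy)
  · exact fun h x hx hxy => h x ⟨hx, mem_perp.mpr fun y hy => (polar_comm Q y x).trans (hxy y hy)⟩

theorem exists_project [FiniteDimensional F V] (hW : Nd Q W) (x : V) :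
    ∃ w ∈ W, x - w ∈ perp Q W := by
  let R : W →ₗ[F] Module.Dual F W := (polarBilin Q).compl₁₂ W.subtype W.subtype
  have hinj : Function.Injective R := (injective_iff_map_eq_zero R).mpr fun u hu =>
    Subtype.ext (hW u u.2 fun y hy => LinearMap.congr_fun hu ⟨y, hy⟩)
  obtain ⟨w, hw⟩ := (LinearMap.injective_iff_surjective_of_finrank_eq_finrank
    Subspace.dual_finrank_eq.symm).mp hinj ((polarBilin Q x).comp W.subtype)
  refine ⟨w, w.2, mem_perp.mpr fun y hy => ?_⟩
  have h1 : polar Q (w : V) y = polar Q x y := LinearMap.congr_fun hw ⟨y, hy⟩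
  rw [polar_sub_right, polar_comm Q y x, polar_comm Q y, h1, sub_self]

theorem split [FiniteDimensional F V] (hW : Nd Q W) (hX : Nd Q X) (hle : W ≤ X) :
    Nd Q (X ⊓ perp Q W) ∧ W ⊔ X ⊓ perp Q W = X ∧
      finrank F X = finrank F W + finrank F ↥(X ⊓ perp Q W) := by
  have hsup : W ⊔ X ⊓ perp Q W = X := by
    refine le_antisymm (sup_le hle inf_le_left) fun x hx => ?_
    obtain ⟨w, hw, hwx⟩ := exists_project hW x
    exact Submodule.mem_sup.mpr ⟨w, hw, x - w, ⟨X.sub_mem hx (hle hw), hwx⟩, by abel⟩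
  refine ⟨fun y hy h => hX y hy.1 fun z hz => ?_, hsup, ?_⟩
  · obtain ⟨w, hw, z', hz', rfl⟩ := Submodule.mem_sup.mp (hsup.ge hz)
    rw [polar_add_right, h z' hz', add_zero]
    exact (polar_comm Q y w).trans (mem_perp.mp hy.2 w hw)
  · conv_lhs => rw [← hsup]
    refine finrank_sup_of_disjoint ?_
    rw [← inf_assoc, inf_eq_left.mpr hle, nd_iff_inf_perp.mp hW]

theorem sup_perp [FiniteDimensional F V] (hQ : Forms.Nondeg Q) (hW : Nd Q W) :
    IsCompl W (perp Q W) ∧ Nd Q (perp Q W) := by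
  obtain ⟨h1, h2, -⟩ := split hW (nd_top hQ) le_top
  rw [top_inf_eq] at h1 h2
  exact ⟨IsCompl.of_eq (nd_iff_inf_perp.mp hW) h2, h1⟩

section Group

variable [Finite F] [FiniteDimensional F V]

theorem index_commutator [Finite V] (hQ : Forms.Nondeg Q) (h2 : (2 : F) ≠ 0) (hn : 2 ≤ finrank F V) :
    (commutator (Forms.orth Q)).index = 4 := index_commutator_odd hQ h2 hn

/-- Elements of odd order are in the commutator subgroup. -/
theorem mem_commutator_of_odd [Finite V] (hQ : Forms.Nondeg Q) (h2 : (2 : F) ≠ 0)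
    (hn : 2 ≤ finrank F V) {g : Forms.orth Q} {r : ℕ} (hr : Odd r) (hg : g ^ r = 1) :
    g ∈ commutator (Forms.orth Q) := by
  obtain ⟨s, hs⟩ := hr
  have h4 := Subgroup.pow_index_mem (commutator (Forms.orth Q)) g
  rw [index_commutator hQ h2 hn] at h4
  have h5 : g = (g ^ 4) ^ ((s + 1) * (s + 1)) := by
    rw [← pow_mul, show 4 * ((s + 1) * (s + 1)) = r * (2 * s + 3) + 1 by rw [hs]; ring, pow_succ,
      pow_mul, hg, one_pow, one_mul]
  rw [h5]
  exact Subgroup.pow_mem _ h4 _

/-- The four classes modulo the commutator subgroup. -/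
theorem exists_class_fix [Finite V] (hQ : Forms.Nondeg Q) (h2 : (2 : F) ≠ 0) (hn : 2 ≤ finrank F V)
    (o : Forms.orth Q) {v w : V} (hv : Q v ≠ 0) (hv' : IsSquare (Q v)) (hw : ¬ IsSquare (Q w)) :
    o ∈ commutator (Forms.orth Q) ∨ o * orefl Q v ∈ commutator (Forms.orth Q) ∨
      o * orefl Q w ∈ commutator (Forms.orth Q) ∨
      o * orefl Q v * orefl Q w ∈ commutator (Forms.orth Q) := by
  have hw0 : Q w ≠ 0 := fun h => hw (h ▸ IsSquare.zero)
  have hs1 : spinHom hQ h2 hn (orefl Q v) = 1 := (spinHom_orefl_eq_one_iff hQ h2 hn hv).mpr hv'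
  have hs2 : spinHom hQ h2 hn (orefl Q w) = -1 := (Int.units_eq_one_or _).resolve_left fun h =>
    hw ((spinHom_orefl_eq_one_iff hQ h2 hn hw0).mp h)
  simp only [mem_commutator_iff_spin hQ h2 hn, dickson_mul_orefl hQ _ hv, dickson_mul_orefl hQ _ hw0,
    map_mul, hs1, hs2, mul_one]
  rcases Int.units_eq_one_or (spinHom hQ h2 hn o) with h | h <;>
  rcases (show ∀ z : ZMod 2, z = 0 ∨ z = 1 by decide) (dickson Q o) with h' | h'
  · exact Or.inl ⟨h', h⟩
  · exact Or.inr (Or.inl ⟨by rw [h']; decide, h⟩)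
  · exact Or.inr (Or.inr (Or.inr ⟨by rw [h']; decide, by rw [h]; decide⟩))
  · exact Or.inr (Or.inr (Or.inl ⟨by rw [h']; decide, by rw [h]; decide⟩))

end Group

end Cfsg.Agent.Lib.Elusive.ExtFieldOrth
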