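import Cfsg.Agent.Lib.Elusive.ExtFieldOrth.Odd
import Cfsg.Agent.Lib.ElusiveOrth.Index

/-!
A quadratic form with a self-adjoint action of a quadratic extension is the coordinate of a quadratic
form over the extension; comparison of the orders of the two orthogonal groups.
Owner: helper88.
-/

set_option autoImplicit false

namespace Cfsg.Agent.Lib.Elusive.ExtFieldOrth

open Module QuadraticMap Cfsg.Agent.Lib.Forms

section Data

variable {F : Type*} [Field F] [Fintype F] {V : Type*} [AddCommGroup V] [Module F V] [FiniteDimensional F V]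

/-- Order and level sets in even dimension. -/
theorem even_data (Q : QuadraticForm F V) (hQ : Forms.Nondeg Q) {m : ℕ} (hm : 0 < m)
    (hdim : finrank F V = 2 * m) :
    ∃ X X' b : ℕ, 0 < X' ∧ X * X' = Fintype.card F ^ (2 * m) - 1 ∧
      Nat.card (Forms.orth Q) * X =
        2 * Fintype.card F ^ b * ∏ i ∈ Finset.range m, (Fintype.card F ^ (2 * (i + 1)) - 1) ∧
      ∀ c : F, c ≠ 0 → levelCard Q c = Fintype.card F ^ (m - 1) * X' := by
  classical
  set q := Fintype.card F with hq
  have hqc : Nat.card F = q := Nat.card_eq_fintype_card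
  have hq1 : 1 < q := Fintype.one_lt_card
  have hsplit : ∀ m, ∏ i ∈ Finset.range m, (q ^ (2 * (i + 1)) - 1) =
      (∏ i ∈ Finset.range m, (q ^ (i + 1) - 1)) * ∏ i ∈ Finset.range m, (q ^ (i + 1) + 1) := fun m => by
    rw [← Finset.prod_mul_distrib]
    exact Finset.prod_congr rfl fun i _ => ElusiveOrth.sq_sub_one q i
  have hsq : ∀ k, q ^ (2 * k) - 1 = (q ^ k + 1) * (q ^ k - 1) := fun k => by
    rw [mul_comm 2 k, pow_mul, ← Nat.sq_sub_sq, one_pow]
  rcases classify Q hQ with ⟨k, hk, he⟩ | ⟨k, c, hc, -, hk, -⟩ | ⟨k, a, b, hab, hk, he⟩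
  · obtain rfl : k = m := by omega
    have he' := he.trans (ElusiveOrth.qPlus_equiv_prod_zero k)
    have hA : (qPlus (F := F) 0).Anisotropic := fun x _ => Subsingleton.elim _ _
    have hf0 : finrank F (Fin 0 ⊕ Fin 0 → F) = 0 := by simp
    refine ⟨q ^ k + 1, q ^ k - 1, ∑ i ∈ Finset.range k, 2 * i,
      Nat.sub_pos_of_lt (Nat.one_lt_pow (by omega) hq1), (hsq k).symm, ?_, fun c hc => ?_⟩
    · rw [card_orth_congr he', card_orth_plus_prod (qPlus_nondeg 0) hA, card_orth_subsingleton,
        one_mul, hqc, hf0, hsplit]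
      simp only [Nat.add_zero]
      rw [← Finset.prod_pow_eq_pow_sum, Finset.prod_mul_distrib, Finset.prod_mul_distrib]
      linear_combination (∏ i ∈ Finset.range k, (q ^ (i + 1) - 1)) *
        (∏ i ∈ Finset.range k, q ^ (2 * i)) * ElusiveOrth.sum_range_eq q k
    · rw [levelCard, card_level_congr he', ← levelCard, levelCard_plus_prod, hqc, hf0]
      have h0 : levelCard (qPlus (F := F) 0) c = 0 := by
        haveI : IsEmpty {v // qPlus (F := F) 0 v = c} := ⟨fun v => by
          have h := v.2
          rw [Subsingleton.elim v.1 0, QuadraticMap.map_zero] at h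
          exact hc h.symm⟩
        exact Nat.card_of_isEmpty
      rw [h0, mul_zero, zero_add, add_zero, mul_comm]
  · omega
  · obtain rfl : m = k + 1 := by omega
    refine ⟨q ^ (k + 1) - 1, q ^ (k + 1) + 1, ∑ i ∈ Finset.range k, (2 * i + 2), by omega,
      by rw [hsq, mul_comm], ?_, fun c hc => ?_⟩
    · rw [card_orth_congr he, card_orth_plus_prod (qBin_nondeg hab) (qBin_anisotropic hab),
        card_orth_qBin hab, hqc, finrank_fintype_fun_eq_card, Fintype.card_fin, hsplit,
        Finset.prod_mul_distrib, Finset.prod_mul_distrib, ← Finset.prod_pow_eq_pow_sum,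
        Finset.prod_range_succ (fun i => q ^ (i + 1) - 1),
        Finset.prod_range_succ' (fun i => q ^ (i + 1) + 1)]
      simp only [Nat.zero_add, pow_one]
      ring
    · rw [levelCard, card_level_congr he, ← levelCard, levelCard_plus_prod, levelCard_qBin hab hc,
        hqc, finrank_fintype_fun_eq_card, Fintype.card_fin, show k + 2 - 1 = k + 1 from rfl,
        Nat.add_sub_cancel]
      obtain ⟨l, hl⟩ : ∃ l, q ^ k = l + 1 := ⟨q ^ k - 1, by
        have := Nat.one_le_pow k q (by omega); omega⟩
      rw [pow_succ, hl, Nat.add_sub_cancel]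
      ring

/-- Order in odd dimension. -/
theorem odd_data (Q : QuadraticForm F V) (hQ : Forms.Nondeg Q) {m : ℕ} (hdim : finrank F V = 2 * m + 1) :
    ∃ b : ℕ, Nat.card (Forms.orth Q) =
      2 * Fintype.card F ^ b * ∏ i ∈ Finset.range m, (Fintype.card F ^ (2 * (i + 1)) - 1) := by
  classical
  rcases classify Q hQ with ⟨k, hk, -⟩ | ⟨k, c, hc, h2, hk, he⟩ | ⟨k, a, b, -, hk, -⟩
  · omega
  · obtain rfl : k = m := by omega
    set q := Fintype.card F with hq
    refine ⟨∑ i ∈ Finset.range k, (2 * i + 1), ?_⟩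
    have hA : (qOne c).Anisotropic := fun x hx => by
      rw [qOne_apply] at hx
      exact mul_self_eq_zero.mp ((mul_eq_zero.mp hx).resolve_left hc)
    rw [card_orth_congr he, card_orth_plus_prod (qOne_nondeg hc h2) hA, card_orth_qOne hc h2,
      Nat.card_eq_fintype_card, ← hq, finrank_self,
      show ∏ i ∈ Finset.range k, (q ^ (2 * (i + 1)) - 1) =
          (∏ i ∈ Finset.range k, (q ^ (i + 1) - 1)) * ∏ i ∈ Finset.range k, (q ^ (i + 1) + 1) by
        rw [← Finset.prod_mul_distrib]
        exact Finset.prod_congr rfl fun i _ => ElusiveOrth.sq_sub_one q i,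
      Finset.prod_mul_distrib, Finset.prod_mul_distrib, ← Finset.prod_pow_eq_pow_sum]
    ring
  · omega

end Data

section KForm

variable {F : Type*} [Field F] {V : Type*} [AddCommGroup V] [Module F V]
  {K : Type*} [Field K] [Algebra F K] [Module K V] [IsScalarTower F K V]

/-- A self-adjoint action of a quadratic extension. -/
structure KData (Q : QuadraticForm F V) (j : K) (δ : F) : Prop where
  sq : j * j = algebraMap F K δ
  coord : ∀ c : K, ∃ s t : F, c = algebraMap F K s + algebraMap F K t * j
  sa : ∀ u v : V, polar Q (j • u) v = polar Q u (j • v)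
  nsq : ∀ c : F, δ ≠ c * c

variable {Q : QuadraticForm F V} {j : K} {δ : F}

theorem KData.ne_zero (D : KData Q j δ) : δ ≠ 0 := fun h => D.nsq 0 (by rw [h, mul_zero])

theorem KData.comb_smul (_D : KData Q j δ) (s t : F) (v : V) :
    (algebraMap F K s + algebraMap F K t * j) • v = s • v + t • (j • v) := by
  rw [add_smul, mul_smul, algebraMap_smul, algebraMap_smul]

theorem KData.unique (D : KData Q j δ) {s t s' t' : F}
    (h : algebraMap F K s + algebraMap F K t * j = algebraMap F K s' + algebraMap F K t' * j) :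
    s = s' ∧ t = t' := by
  have ht : t = t' := by
    by_contra hne
    have h1 : j = algebraMap F K ((s' - s) / (t - t')) := by
      rw [map_div₀, map_sub, map_sub, eq_div_iff]
      · linear_combination h
      · rw [← map_sub, map_ne_zero_iff _ (algebraMap F K).injective]
        exact sub_ne_zero.mpr hne
    have h3 := D.sq
    rw [h1, ← map_mul] at h3
    exact D.nsq _ ((algebraMap F K).injective h3).symm
  subst ht
  exact ⟨(algebraMap F K).injective (add_right_cancel h), rfl⟩

/-- The bilinear form over the extension. -/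
noncomputable def KData.bil (D : KData Q j δ) : V →ₗ[K] V →ₗ[K] K :=
  LinearMap.mk₂ K (fun u v => algebraMap F K (polar Q u v) + algebraMap F K (δ⁻¹ * polar Q (j • u) v) * j)
    (fun u u' v => by simp only [smul_add, polar_add_left, mul_add, map_add]; ring)
    (fun c u v => by
      obtain ⟨s, t, rfl⟩ := D.coord c
      have hj : j • j • u = δ • u := by rw [← mul_smul, D.sq, algebraMap_smul]
      rw [D.comb_smul, smul_add, smul_comm j s u, smul_comm j t (j • u), hj]
      simp only [polar_add_left, polar_smul_left, smul_eq_mul, map_add, map_mul, map_inv₀]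
      have hδ : algebraMap F K δ ≠ 0 := (map_ne_zero_iff _ (algebraMap F K).injective).mpr D.ne_zero
      field_simp
      linear_combination -(algebraMap F K t * algebraMap F K (polar Q (j • u) v)) * D.sq)
    (fun u v v' => by simp only [polar_add_right, mul_add, map_add]; ring)
    (fun c u v => by
      obtain ⟨s, t, rfl⟩ := D.coord c
      have hj : j • j • u = δ • u := by rw [← mul_smul, D.sq, algebraMap_smul]
      rw [D.comb_smul]
      simp only [polar_add_right, polar_smul_right, smul_eq_mul, ← D.sa, hj, polar_smul_left, map_add, map_mul,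
        map_inv₀]
      have hδ : algebraMap F K δ ≠ 0 := (map_ne_zero_iff _ (algebraMap F K).injective).mpr D.ne_zero
      field_simp
      linear_combination -(algebraMap F K t * algebraMap F K (polar Q (j • u) v)) * D.sq)

theorem KData.bil_apply (D : KData Q j δ) (u v : V) :
    D.bil u v = algebraMap F K (polar Q u v) + algebraMap F K (δ⁻¹ * polar Q (j • u) v) * j := rfl

/-- The quadratic form over the extension. -/
noncomputable def KData.form (D : KData Q j δ) : QuadraticForm K V :=
  (algebraMap F K (2 : F)⁻¹) • (LinearMap.BilinMap.toQuadraticMap D.bil)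

theorem KData.form_apply (D : KData Q j δ) (h2 : (2 : F) ≠ 0) (v : V) :
    D.form v = algebraMap F K (Q v) + algebraMap F K ((2 * δ)⁻¹ * polar Q (j • v) v) * j := by
  have hQv : Q v = (2 : F)⁻¹ * (2 * Q v) := by rw [inv_mul_cancel_left₀ h2]
  conv_rhs => rw [hQv]
  rw [KData.form, QuadraticMap.smul_apply, LinearMap.BilinMap.toQuadraticMap_apply, D.bil_apply, polar_self',
    smul_eq_mul, mul_inv]
  simp only [map_mul]
  ring

theorem KData.form_eq_iff (D : KData Q j δ) (h2 : (2 : F) ≠ 0) (v : V) (s t : F) :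
    D.form v = algebraMap F K s + algebraMap F K t * j ↔
      Q v = s ∧ (2 * δ)⁻¹ * polar Q (j • v) v = t := by
  rw [D.form_apply h2]
  exact ⟨D.unique, fun ⟨h, h'⟩ => by rw [h, h']⟩

theorem KData.form_polar (D : KData Q j δ) (h2 : (2 : F) ≠ 0) (u v : V) :
    polar D.form u v = D.bil u v := by
  rw [KData.form, FunLike.coe_smul, QuadraticMap.polar_smul, LinearMap.BilinMap.polar_toQuadraticMap,
    smul_eq_mul]
  have hs : D.bil v u = D.bil u v := by
    rw [D.bil_apply, D.bil_apply, polar_comm Q v u, D.sa v u, polar_comm Q v (j • u)]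
  rw [hs, ← two_mul, ← map_ofNat (algebraMap F K) 2, ← mul_assoc, ← map_mul, inv_mul_cancel₀ h2, map_one, one_mul]

theorem KData.form_nondeg (D : KData Q j δ) (h2 : (2 : F) ≠ 0) (hQ : Forms.Nondeg Q) :
    Forms.Nondeg D.form := fun x hx => hQ x fun y => by
  have h := hx y
  rw [D.form_polar h2, D.bil_apply] at h
  exact (D.unique (s' := 0) (t' := 0) (h.trans (by simp))).1

/-- Linear isometries over the extension are isometries. -/
noncomputable def KData.toOrth (D : KData Q j δ) (h2 : (2 : F) ≠ 0) : Forms.orth D.form →* Forms.orth Q where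
  toFun g := ⟨g.1.restrictScalars F, fun v => by
    have h := g.2 v
    rw [D.form_apply h2 v] at h
    exact ((D.form_eq_iff h2 _ _ _).mp h).1⟩
  map_one' := rfl
  map_mul' _ _ := rfl

theorem KData.toOrth_injective (D : KData Q j δ) (h2 : (2 : F) ≠ 0) : Function.Injective (D.toOrth h2) :=
  fun g g' h => Subtype.ext (LinearEquiv.ext fun v => LinearEquiv.congr_fun (congrArg Subtype.val h) v)

theorem KData.toOrth_smul (D : KData Q j δ) (h2 : (2 : F) ≠ 0) (g : Forms.orth D.form) (c : K) (v : V) :
    (D.toOrth h2 g).1 (c • v) = c • (D.toOrth h2 g).1 v := g.1.map_smul c v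

/-- Prescribed values on an invariant non-degenerate subspace. -/
theorem KData.exists_value [Finite F] [FiniteDimensional F V] [FiniteDimensional F K] (D : KData Q j δ)
    (h2 : (2 : F) ≠ 0) (hK : finrank F K = 2) {X : Submodule F V} (hjX : ∀ v ∈ X, j • v ∈ X) (hX : Nd Q X)
    (hdim : 4 ≤ finrank F X) (s t : F) : ∃ v ∈ X, Q v = s ∧ polar Q (j • v) v = t := by
  haveI : Finite K := Module.finite_of_finite F
  haveI : FiniteDimensional K V := FiniteDimensional.right F K V
  let XK : Submodule K V :=
    { carrier := X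
      zero_mem' := X.zero_mem
      add_mem' := X.add_mem
      smul_mem' := fun c v hv => by
        obtain ⟨a, b, rfl⟩ := D.coord c
        rw [D.comb_smul]
        exact X.add_mem (X.smul_mem a hv) (X.smul_mem b (hjX v hv)) }
  have hXnd : Forms.Nondeg (res D.form XK) := res_nondeg fun x hx h => hX x hx fun y hy => by
    have h1 := h y hy
    rw [D.form_polar h2, D.bil_apply] at h1
    exact (D.unique (s' := 0) (t' := 0) (h1.trans (by simp))).1
  have h1 : finrank F K * finrank K XK = finrank F XK := Module.finrank_mul_finrank F K XK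
  have h3 : finrank F XK = finrank F X := rfl
  obtain ⟨⟨v, hv⟩, hQv⟩ := exists_Q_eq hXnd (by rw [hK] at h1; omega)
    (algebraMap F K s + algebraMap F K ((2 * δ)⁻¹ * t) * j)
  obtain ⟨h4, h5⟩ := (D.form_eq_iff h2 v _ _).mp hQv
  exact ⟨v, hv, h4, mul_left_cancel₀ (inv_ne_zero (mul_ne_zero h2 D.ne_zero)) h5⟩

/-- The index of the smaller orthogonal group only has odd primes of odd level. -/
theorem KData.index_level [Fintype F] [FiniteDimensional F V] [FiniteDimensional F K] [Fintype K]
    (D : KData Q j δ) (h2 : (2 : F) ≠ 0) (hQ : Forms.Nondeg Q) (hK : finrank F K = 2) {d : ℕ} (hd : 0 < d)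
    (hdim : finrank F V = 2 * d) {t : ℕ} (ht : Nat.card (Forms.orth Q) = t * Nat.card (Forms.orth D.form))
    {r : ℕ} (hr : r.Prime) (hrq : ¬ r ∣ Fintype.card F) (hrt : r ∣ t) :
    ∃ l, Odd l ∧ r ∣ Fintype.card F ^ (2 * l) - 1 := by
  classical
  haveI : FiniteDimensional K V := FiniteDimensional.right F K V
  haveI : Finite V := Module.finite_of_finite F
  set q := Fintype.card F with hq
  have hq1 : 1 < q := Fintype.one_lt_card
  have hcardK : Fintype.card K = q ^ 2 := by rw [Module.card_eq_pow_finrank (K := F), hK]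
  have hdK : finrank K V = d := by
    have := Module.finrank_mul_finrank F K V
    rw [hK, hdim] at this
    omega
  obtain ⟨X, X', a, hX'0, hXX', hcard, hlev⟩ := even_data Q hQ hd hdim
  obtain ⟨m, hm⟩ : ∃ m, d = 2 * m ∨ d = 2 * m + 1 := ⟨d / 2, by omega⟩
  obtain ⟨R, hR, hRr⟩ := ElusiveOrth.exists_prod_odd (q := q ^ 2) (m := m) (n := d) (by omega) (by omega)
  rw [Finset.prod_congr rfl (fun i _ => by rw [← pow_mul] :
    ∀ i ∈ Finset.range d, (q ^ 2) ^ (i + 1) - 1 = q ^ (2 * (i + 1)) - 1)] at hR
  rw [hR] at hcard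
  have hApos : 0 < ∏ i ∈ Finset.range m, ((q ^ 2) ^ (2 * (i + 1)) - 1) :=
    Finset.prod_pos fun i _ => Nat.sub_pos_of_lt (Nat.one_lt_pow (by omega) (Nat.one_lt_pow two_ne_zero hq1))
  suffices h : r ∣ q ^ a * R by
    rcases hr.dvd_mul.mp h with h1 | h1
    · exact absurd (hr.dvd_of_dvd_pow h1) hrq
    · obtain ⟨l, hl, -, hd'⟩ := hRr r hr h1
      exact ⟨l, hl, by rw [pow_mul]; exact hd'⟩
  rcases hm with hm | hm
  · obtain ⟨XK, XK', b, -, hXK, hcardK', hlevK⟩ :=
      even_data D.form (D.form_nondeg h2 hQ) (m := m) (by omega) (by omega)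
    rw [hcardK] at hXK hcardK' hlevK
    have hfib : levelCard Q 1 = q * ((q ^ 2) ^ (m - 1) * XK') := by
      let e : (Σ c : F, {v // D.form v = algebraMap F K 1 + algebraMap F K c * j}) → {v // Q v = 1} :=
        fun p => ⟨p.2.1, ((D.form_eq_iff h2 _ _ _).mp p.2.2).1⟩
      have he : Function.Bijective e := by
        refine ⟨?_, fun v => ⟨⟨_, v.1, (D.form_eq_iff h2 v.1 1 _).mpr ⟨v.2, rfl⟩⟩, rfl⟩⟩
        rintro ⟨c, v, hv⟩ ⟨c', v', hv'⟩ h
        obtain rfl : v = v' := congrArg Subtype.val h
        obtain rfl : c = c' := (D.unique (hv.symm.trans hv')).2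
        rfl
      rw [levelCard, ← Nat.card_congr (Equiv.ofBijective e he), Nat.card_sigma]
      rw [show ∀ s : Finset F, (∑ c ∈ s, Nat.card {v // D.form v = algebraMap F K 1 + algebraMap F K c * j}) =
          ∑ c ∈ s, levelCard D.form (algebraMap F K 1 + algebraMap F K c * j) from fun _ => rfl,
        Finset.sum_congr rfl (g := fun _ => (q ^ 2) ^ (m - 1) * XK') fun c _ => hlevK _ fun h0 => one_ne_zero
          (D.unique (s' := 0) (t' := 0) (h0.trans (by simp))).1,
        Finset.sum_const, Finset.card_univ, smul_eq_mul]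
    rw [hlev 1 one_ne_zero, ← mul_assoc, ← pow_mul, ← pow_succ', show 2 * (m - 1) + 1 = d - 1 by omega] at hfib
    obtain rfl : X' = XK' := Nat.eq_of_mul_eq_mul_left (Nat.pow_pos (by omega)) hfib
    obtain rfl : X = XK := Nat.eq_of_mul_eq_mul_right hX'0 (by rw [hXX', hXK, ← pow_mul]; congr 2; omega)
    refine (dvd_mul_of_dvd_left hrt ((q ^ 2) ^ b)).trans (dvd_of_eq ?_)
    refine Nat.eq_of_mul_eq_mul_right (Nat.mul_pos two_pos hApos) ?_
    rw [ht] at hcard
    calc t * (q ^ 2) ^ b * (2 * ∏ i ∈ Finset.range m, ((q ^ 2) ^ (2 * (i + 1)) - 1))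
        = t * (2 * (q ^ 2) ^ b * ∏ i ∈ Finset.range m, ((q ^ 2) ^ (2 * (i + 1)) - 1)) := by ring
      _ = t * Nat.card (Forms.orth D.form) * X := by rw [← hcardK']; ring
      _ = _ := by rw [hcard]; ring
  · obtain ⟨b, hcardK'⟩ := odd_data D.form (D.form_nondeg h2 hQ) (m := m) (by omega)
    rw [hcardK] at hcardK'
    rw [ht, hcardK'] at hcard
    refine (dvd_mul_of_dvd_left hrt ((q ^ 2) ^ b * X)).trans (dvd_of_eq ?_)
    refine Nat.eq_of_mul_eq_mul_right (Nat.mul_pos two_pos hApos) ?_
    linear_combination hcard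

end KForm

end Cfsg.Agent.Lib.Elusive.ExtFieldOrth
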