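import Cfsg.Agent.Lib.Elusive.ExtFieldOrth.Odd
import Cfsg.Agent.Lib.Forms.Basis

/-!
Involutions and square roots of `-1` in the commutator subgroup of an orthogonal group are conjugate
there to elements normalising a self-adjoint square root of a non-square.
Owner: helper88.
-/

set_option autoImplicit false

namespace Cfsg.Agent.Lib.Elusive.ExtFieldOrth

open Module QuadraticMap Cfsg.Agent.Lib.Forms Cfsg.Agent.Lib.Orth52

variable {F : Type*} [Field F] {V : Type*} [AddCommGroup V] [Module F V]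

/-- Orthogonal vectors of value one. -/
structure Ortho (Q : QuadraticForm F V) {α : Type*} (v : α → V) : Prop where
  one : ∀ a, Q (v a) = 1
  perp : ∀ a b, a ≠ b → polar Q (v a) (v b) = 0

/-- Commuting or anticommuting with `J`. -/
def NormJ (J : Module.End F V) (y : V ≃ₗ[F] V) : Prop :=
  (∀ v, y (J v) = J (y v)) ∨ ∀ v, y (J v) = -(J (y v))

/-- Values on invariant subspaces. -/
def HasValues (Q : QuadraticForm F V) (J : Module.End F V) : Prop :=
  ∀ X : Submodule F V, (∀ v ∈ X, J v ∈ X) → Nd Q X → 4 ≤ finrank F X → ∀ s t : F,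
    ∃ v ∈ X, Q v = s ∧ polar Q (J v) v = t

variable {Q : QuadraticForm F V} {J : Module.End F V} {δ : F} {α : Type*} [Fintype α] {v w : α → V}

theorem Ortho.polar_sum (hv : Ortho Q v) (c : α → F) (b : α) :
    polar Q (∑ a, c a • v a) (v b) = c b * 2 := by
  rw [show polar Q (∑ a, c a • v a) (v b) = polarBilin Q (∑ a, c a • v a) (v b) from rfl, map_sum,
    LinearMap.sum_apply, Finset.sum_eq_single b]
  · rw [map_smul, LinearMap.smul_apply, polarBilin_apply_apply, polar_self', hv.one, mul_one, smul_eq_mul]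
  · intro a _ hab
    rw [map_smul, LinearMap.smul_apply, polarBilin_apply_apply, hv.perp a b hab, smul_zero]
  · simp

theorem Ortho.li (hv : Ortho Q v) (h2 : (2 : F) ≠ 0) : LinearIndependent F v := by
  rw [Fintype.linearIndependent_iff]
  intro c hc b
  have h := hv.polar_sum c b
  rw [hc, polar_zero_left, eq_comm, mul_eq_zero] at h
  exact h.resolve_right h2

theorem Ortho.nd (hv : Ortho Q v) (h2 : (2 : F) ≠ 0) : Nd Q (Submodule.span F (Set.range v)) := by
  intro x hx h
  obtain ⟨c, rfl⟩ := (Submodule.mem_span_range_iff_exists_fun F).mp hx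
  refine Finset.sum_eq_zero fun b _ => ?_
  have h1 := h (v b) (Submodule.subset_span ⟨b, rfl⟩)
  rw [hv.polar_sum, mul_eq_zero] at h1
  rw [h1.resolve_right h2, zero_smul]

theorem mem_perp_span {x : V} (h : ∀ a, polar Q (v a) x = 0) : x ∈ perp Q (Submodule.span F (Set.range v)) := by
  refine mem_perp.mpr fun u hu => ?_
  obtain ⟨c, rfl⟩ := (Submodule.mem_span_range_iff_exists_fun F).mp hu
  rw [show polar Q (∑ a, c a • v a) x = polarBilin Q (∑ a, c a • v a) x from rfl, map_sum, LinearMap.sum_apply]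
  exact Finset.sum_eq_zero fun a _ => by rw [map_smul, LinearMap.smul_apply, polarBilin_apply_apply, h, smul_zero]

theorem perp_of_span {x : V} (h : x ∈ perp Q (Submodule.span F (Set.range v))) (a : α) : polar Q (v a) x = 0 :=
  mem_perp.mp h _ (Submodule.subset_span ⟨a, rfl⟩)

theorem span_inv {f : Module.End F V} (h : ∀ a, f (v a) ∈ Submodule.span F (Set.range v)) :
    ∀ x ∈ Submodule.span F (Set.range v), f x ∈ Submodule.span F (Set.range v) :=
  fun _ hx => (Submodule.span_le (p := (Submodule.span F (Set.range v)).comap f)).mpr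
    (by rintro _ ⟨a, rfl⟩; exact h a) hx

theorem JData.perp_inv (hJ : JData Q J δ) {W : Submodule F V} (hW : ∀ v ∈ W, J v ∈ W) :
    ∀ u ∈ perp Q W, J u ∈ perp Q W := fun u hu => mem_perp.mpr fun x hx => by
  rw [← hJ.sa]; exact mem_perp.mp hu _ (hW x hx)

variable [FiniteDimensional F V]

theorem exists_orth_map (hQ : Forms.Nondeg Q) (h2 : (2 : F) ≠ 0) (hv : Ortho Q v) (hw : Ortho Q w) :
    ∃ o : Forms.orth Q, ∀ a, o.1 (v a) = w a := by
  obtain ⟨g, hg, hgv⟩ := witt_orth hQ (v ∘ (Fintype.equivFin α).symm) (w ∘ (Fintype.equivFin α).symm)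
    ((hv.li h2).comp _ (Equiv.injective _)) ((hw.li h2).comp _ (Equiv.injective _))
    (fun i => by simp [hv.one, hw.one]) (fun i k => by
      rcases eq_or_ne i k with rfl | h
      · simp [polar_self', hv.one, hw.one]
      · have h' := (Fintype.equivFin α).symm.injective.ne h
        simp [hv.perp _ _ h', hw.perp _ _ h'])
  exact ⟨⟨g, hg⟩, fun a => by simpa using hgv (Fintype.equivFin α a)⟩

omit [FiniteDimensional F V] in
/-- The matrix of `J` in an invariant orthonormal plane. -/
theorem plane_form (hJ : JData Q J δ) (h2 : (2 : F) ≠ 0) {u : Fin 2 → V} (hu : Ortho Q u)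
    (hinv : ∀ i, J (u i) ∈ Submodule.span F (Set.range u)) :
    ∃ a b : F, J (u 0) = a • u 0 + b • u 1 ∧ J (u 1) = b • u 0 - a • u 1 := by
  obtain ⟨c, hc⟩ := (Submodule.mem_span_range_iff_exists_fun F).mp (hinv 0)
  obtain ⟨e, he⟩ := (Submodule.mem_span_range_iff_exists_fun F).mp (hinv 1)
  have h1 := hu.polar_sum c 1
  have h3 := hu.polar_sum e 0
  rw [hc] at h1
  rw [he, hJ.sa, polar_comm, h1] at h3
  have hce : e 0 = c 1 := mul_right_cancel₀ h2 h3.symm
  rw [Fin.sum_univ_two] at hc he
  have hne : u 0 ≠ 0 := fun h => by have := hu.one 0; rw [h, QuadraticMap.map_zero] at this; exact zero_ne_one this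
  have hc1 : c 1 ≠ 0 := fun h => hne (hJ.not_eigen (c := c 0) (by rw [← hc, h, zero_smul, add_zero]))
  have h4 : δ • u 0 = (c 0 * c 0 + c 1 * e 0) • u 0 + (c 0 * c 1 + c 1 * e 1) • u 1 := by
    rw [← hJ.sq, ← hc, map_add, map_smul, map_smul, ← hc, ← he]
    module
  have h5 := congrArg (fun z => polar Q (u 1) z) h4
  simp only [polar_smul_right, polar_add_right, hu.perp 1 0 (by decide), polar_self', hu.one, smul_eq_mul,
    mul_zero, zero_add, mul_one] at h5
  have h6 : c 0 + e 1 = 0 := (mul_eq_zero.mp ((mul_eq_zero.mp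
    (show c 1 * (c 0 + e 1) * 2 = 0 by linear_combination -h5)).resolve_right h2)).resolve_left hc1
  refine ⟨c 0, c 1, hc.symm, ?_⟩
  rw [← he, hce, eq_neg_of_add_eq_zero_right h6]
  module

variable [Finite F]

/-- An invariant plane with an orthonormal basis. -/
theorem exists_line (hJ : JData Q J δ) (h2 : (2 : F) ≠ 0) (hval : HasValues Q J) {X : Submodule F V}
    (hJX : ∀ v ∈ X, J v ∈ X) (hX : Nd Q X) (hdim : 4 ≤ finrank F X) :
    ∃ u : Fin 2 → V, (∀ i, u i ∈ X) ∧ Ortho Q u ∧ ∀ i, J (u i) ∈ Submodule.span F (Set.range u) := by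
  haveI : Fintype F := Fintype.ofFinite F
  obtain ⟨a, b, hab⟩ := S5976.exists_norm (δ := (-1 : F)) h2 (neg_ne_zero.mpr one_ne_zero) δ
  have hb : b ≠ 0 := fun h => hJ.nsq a (by rw [← hab, h]; ring)
  obtain ⟨v, hv, hQv, hBv⟩ := hval X hJX hX hdim 1 (2 * a)
  have hQJ : Q (J v) = δ := by
    have h1 : 2 * Q (J v) = δ * (2 * Q v) := by
      rw [← polar_self', hJ.sa, hJ.sq, polar_smul_right, smul_eq_mul, polar_self']
    rw [hQv, mul_one] at h1
    exact mul_left_cancel₀ h2 (h1.trans (mul_comm δ 2))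
  let u : Fin 2 → V := ![v, b⁻¹ • (J v - a • v)]
  have hu0 : u 0 = v := rfl
  have hu1 : u 1 = b⁻¹ • (J v - a • v) := rfl
  have hperp : polar Q v (b⁻¹ • (J v - a • v)) = 0 := by
    rw [polar_smul_right, polar_sub_right, polar_smul_right, polar_comm Q v (J v), hBv, polar_self', hQv]
    simp only [smul_eq_mul]; ring
  refine ⟨u, fun i => ?_, ⟨fun i => ?_, fun i k hik => ?_⟩, fun i => ?_⟩
  · fin_cases i
    · exact hv
    · exact X.smul_mem _ (X.sub_mem (hJX v hv) (X.smul_mem _ hv))
  · fin_cases i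
    · exact hQv
    · show Q (b⁻¹ • (J v - a • v)) = 1
      rw [Q_smul, sub_eq_add_neg, ← neg_smul, Q_add, Q_smul, polar_smul_right, hQJ, hQv, hBv]
      simp only [smul_eq_mul]
      field_simp
      linear_combination -hab
  · fin_cases i <;> fin_cases k
    · exact absurd rfl hik
    · exact hperp
    · exact (polar_comm Q _ _).trans hperp
    · exact absurd rfl hik
  · have h0 : v ∈ Submodule.span F (Set.range u) := Submodule.subset_span ⟨0, rfl⟩
    have h1 : J v ∈ Submodule.span F (Set.range u) := by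
      have h3 : J v = b • u 1 + a • v := by rw [hu1, smul_smul, mul_inv_cancel₀ hb, one_smul, sub_add_cancel]
      rw [h3]
      exact Submodule.add_mem _ (Submodule.smul_mem _ _ (Submodule.subset_span ⟨1, rfl⟩)) (Submodule.smul_mem _ _ h0)
    fin_cases i
    · exact h1
    · show J (b⁻¹ • (J v - a • v)) ∈ _
      rw [map_smul, map_sub, map_smul, hJ.sq]
      exact Submodule.smul_mem _ _ (Submodule.sub_mem _ (Submodule.smul_mem _ _ h0) (Submodule.smul_mem _ _ h1))

/-- Several orthogonal invariant planes with orthonormal bases. -/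
theorem exists_lines (hJ : JData Q J δ) (h2 : (2 : F) ≠ 0) (hval : HasValues Q J) :
    ∀ (k : ℕ) (X : Submodule F V), (∀ v ∈ X, J v ∈ X) → Nd Q X → 2 * k + 2 ≤ finrank F X →
      ∃ w : Fin 2 × Fin k → V, (∀ p, w p ∈ X) ∧ Ortho Q w ∧
        ∀ i l, J (w (i, l)) ∈ Submodule.span F (Set.range fun i' => w (i', l)) := by
  intro k
  induction k with
  | zero => exact fun X _ _ _ => ⟨fun p => p.2.elim0, fun p => p.2.elim0,
      ⟨fun p => p.2.elim0, fun p => p.2.elim0⟩, fun _ l => l.elim0⟩
  | succ k ih =>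
    intro X hJX hX hdim
    obtain ⟨u, huX, hu, huJ⟩ := exists_line hJ h2 hval hJX hX (by omega)
    set P := Submodule.span F (Set.range u) with hP
    have hPX : P ≤ X := Submodule.span_le.mpr (by rintro _ ⟨i, rfl⟩; exact huX i)
    have hPJ := span_inv (f := J) huJ
    obtain ⟨hY, -, hYd⟩ := split (W := P) (hu.nd h2) hX hPX
    have hPd : finrank F P = 2 := by rw [hP, finrank_span_eq_card (hu.li h2), Fintype.card_fin]
    obtain ⟨w, hw, hwo, hwJ⟩ := ih (X ⊓ perp Q P) (fun v hv => ⟨hJX v hv.1, hJ.perp_inv hPJ v hv.2⟩) hY (by omega)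
    let W : Fin 2 × Fin (k + 1) → V := fun p =>
      Fin.cases (motive := fun _ => V) (u p.1) (fun l => w (p.1, l)) p.2
    have hW0 : ∀ i, W (i, 0) = u i := fun i => rfl
    have hWs : ∀ i l, W (i, Fin.succ l) = w (i, l) := fun i l => rfl
    have hperp : ∀ i p, polar Q (u i) (w p) = 0 := fun i p => perp_of_span (hw p).2 i
    refine ⟨W, ?_, ⟨?_, ?_⟩, ?_⟩
    · rintro ⟨i, l⟩
      induction l using Fin.cases with
      | zero => exact huX i
      | succ l => exact (hw (i, l)).1
    · rintro ⟨i, l⟩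
      induction l using Fin.cases with
      | zero => exact hu.one i
      | succ l => exact hwo.one (i, l)
    · rintro ⟨i, l⟩ ⟨i', l'⟩ hne
      induction l using Fin.cases with
      | zero =>
        induction l' using Fin.cases with
        | zero => exact hu.perp i i' fun h => hne (by rw [h])
        | succ l' => exact hperp i (i', l')
      | succ l =>
        induction l' using Fin.cases with
        | zero => exact (polar_comm Q _ _).trans (hperp i' (i, l))
        | succ l' => exact hwo.perp _ _ fun h => hne (by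
            rw [Prod.mk.injEq] at h ⊢
            exact ⟨h.1, congrArg Fin.succ h.2⟩)
    · intro i l
      induction l using Fin.cases with
      | zero => exact huJ i
      | succ l => exact hwJ i l

/-- A reflection vector of each class in a non-degenerate subspace. -/
theorem exists_class_vectors (h2 : (2 : F) ≠ 0) {L : Submodule F V} (hL : Nd Q L) (hdim : 2 ≤ finrank F L) :
    ∃ v ∈ L, ∃ w ∈ L, Q v ≠ 0 ∧ IsSquare (Q v) ∧ ¬ IsSquare (Q w) := by
  obtain ⟨η, hη⟩ := Forms.exists_nonsq (F := F) h2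
  obtain ⟨⟨v, hv⟩, hQv⟩ := exists_Q_eq (res_nondeg hL) hdim 1
  obtain ⟨⟨w, hw⟩, hQw⟩ := exists_Q_eq (res_nondeg hL) hdim η
  have hQv' : Q v = 1 := hQv
  have hQw' : Q w = η := hQw
  exact ⟨v, hv, w, hw, by rw [hQv']; exact one_ne_zero, hQv' ▸ IsSquare.one, hQw' ▸ hη⟩

variable [Finite V]

omit [Finite F] [FiniteDimensional F V] [Finite V] in
theorem orefl_inv (v : V) : (orefl Q v)⁻¹ = orefl Q v := Subtype.ext (refl_inv Q v)

/-- An involution of the commutator subgroup: an orthonormal basis of its negated space. -/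
theorem neg_space (hQ : Forms.Nondeg Q) (h2 : (2 : F) ≠ 0) {d : ℕ} (hdim : finrank F V = 2 * d) (hd : 0 < d)
    {x : Forms.orth Q} (hxC : x ∈ commutator (Forms.orth Q)) (hxx : ∀ v, x.1 (x.1 v) = v)
    (h1 : ∃ v, x.1 v ≠ v) (h1' : ∃ v, x.1 v ≠ -v) :
    ∃ c, 0 < c ∧ c < d ∧ ∃ e : Fin 2 × Fin c → V, Ortho Q e ∧ (∀ p, x.1 (e p) = -e p) ∧
      ∀ u, (∀ p, polar Q (e p) u = 0) → x.1 u = u := by
  classical
  let E : Submodule F V := LinearMap.ker ((x.1 : V →ₗ[F] V) + LinearMap.id)
  have hE : ∀ v, v ∈ E ↔ x.1 v = -v := fun v => by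
    show x.1 v + v = 0 ↔ _
    exact add_eq_zero_iff_eq_neg
  have hmem : ∀ v, v - x.1 v ∈ E := fun v => by rw [hE, map_sub, hxx, neg_sub]
  have hperp : ∀ v, v + x.1 v ∈ perp Q E := fun v => mem_perp.mpr fun u hu => by
    have h := orth_polar x.2 u v
    rw [(hE u).mp hu, polar_neg_left] at h
    rw [polar_add_right]
    linear_combination -h
  have hsum : ∀ v : V, (2 : F) • v = (v - x.1 v) + (v + x.1 v) := fun v => by rw [two_smul]; abel
  have hEnd : Nd Q E := fun u hu h => hQ u fun y => by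
    have h3 : polar Q u ((2 : F) • y) = 0 := by
      rw [hsum, polar_add_right, h _ (hmem y), zero_add]
      exact mem_perp.mp (hperp y) u hu
    rw [polar_smul_right, smul_eq_mul, mul_eq_zero] at h3
    exact h3.resolve_left h2
  have hfix : ∀ v ∈ perp Q E, x.1 v = v := fun v hv => by
    have h3 : v - x.1 v = 0 := hEnd _ (hmem v) fun y hy => by
      have h4 := orth_polar x.2 v y
      rw [(hE y).mp hy, polar_neg_right] at h4
      rw [polar_sub_left, (polar_comm Q v y).trans (mem_perp.mp hv y hy)] at *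
      linear_combination h4
    exact (sub_eq_zero.mp h3).symm
  obtain ⟨n, hn⟩ : ∃ n, finrank F E = n + 1 := by
    refine ⟨finrank F E - 1, (Nat.sub_add_cancel ?_).symm⟩
    obtain ⟨v, hv⟩ := h1
    refine Submodule.one_le_finrank_iff.mpr fun h0 => hv ?_
    have := hmem v
    rw [h0, Submodule.mem_bot, sub_eq_zero] at this
    exact this.symm
  obtain ⟨α, hα⟩ := Forms.exists_nonsq (F := F) h2
  let B : LinearMap.BilinForm F E := (2 : F)⁻¹ • (polarBilin Q).compl₁₂ E.subtype E.subtype
  have hB : ∀ u v : E, B u v = (2 : F)⁻¹ * polar Q (u : V) (v : V) := fun u v => rfl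
  have hBs : B.IsSymm := ⟨fun u v => by rw [hB, hB, polar_comm]⟩
  have hBn : B.Nondegenerate := by
    refine ⟨fun u hu => ?_, fun u hu => ?_⟩ <;> refine Subtype.ext (hEnd u u.2 fun y hy => ?_)
    · exact (mul_eq_zero.mp (hu ⟨y, hy⟩)).resolve_left (inv_ne_zero h2)
    · exact (polar_comm Q _ _).trans ((mul_eq_zero.mp (hu ⟨y, hy⟩)).resolve_left (inv_ne_zero h2))
  obtain ⟨b, hb0, hb1, hbl⟩ := exists_orth_basis_symm h2 hα n B hBs hBn hn
  have hval : ∀ i, Q (b i : V) = B (b i) (b i) := fun i => by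
    rw [hB, polar_self', inv_mul_cancel_left₀ h2]
  have hperp' : ∀ i k, i ≠ k → polar Q (b i : V) (b k : V) = 0 := fun i k h =>
    (mul_eq_zero.mp (hb0 i k h)).resolve_left (inv_ne_zero h2)
  let vs : List V := List.ofFn fun i => (b i : V)
  have hvs0 : ∀ v ∈ vs, Q v ≠ 0 := fun v hv => by
    obtain ⟨i, rfl⟩ := List.mem_ofFn.mp hv
    rw [hval]
    by_cases hi : i = Fin.last n
    · subst hi
      rcases hbl with h | h <;> rw [h]
      · exact one_ne_zero
      · exact fun h0 => hα (h0 ▸ IsSquare.zero)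
    · rw [hb1 i hi]; exact one_ne_zero
  have hpw : vs.Pairwise fun v w => polar Q v w = 0 :=
    List.pairwise_ofFn.mpr fun i k hik => hperp' i k hik.ne
  have hspanE : Submodule.span F (Set.range fun i => (b i : V)) = E := by
    rw [show (fun i => (b i : V)) = E.subtype ∘ b from rfl, Set.range_comp, ← Submodule.map_span, b.span_eq,
      Submodule.map_top, Submodule.range_subtype]
  have hxe : x = oreflProd Q vs := by
    refine Subtype.ext (LinearEquiv.ext fun v => smul_right_injective V h2 ?_)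
    show (2 : F) • x.1 v = (2 : F) • (oreflProd Q vs).1 v
    rw [← map_smul x.1, ← map_smul (oreflProd Q vs).1, hsum, map_add x.1 (v - x.1 v),
      map_add (oreflProd Q vs).1 (v - x.1 v)]
    congr 1
    · rw [(hE _).mp (hmem v)]
      have hle : E ≤ LinearMap.ker (((oreflProd Q vs).1 : V →ₗ[F] V) + LinearMap.id) := by
        rw [← hspanE, Submodule.span_le]
        rintro _ ⟨i, rfl⟩
        show (oreflProd Q vs).1 (b i : V) + (b i : V) = 0
        rw [oreflProd_neg vs hvs0 hpw (List.mem_ofFn.mpr ⟨i, rfl⟩), neg_add_cancel]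
      exact (eq_neg_of_add_eq_zero_left (LinearMap.mem_ker.mp (hle (hmem v)))).symm
    · rw [hfix _ (hperp v), oreflProd_fix vs fun u hu => by
        obtain ⟨i, rfl⟩ := List.mem_ofFn.mp hu
        exact mem_perp.mp (hperp v) _ (b i).2]
  rw [hxe, oreflProd_mem_commutator_iff hQ h2 (by omega) vs hvs0, List.length_ofFn] at hxC
  obtain ⟨⟨c, hc⟩, hsq⟩ := hxC
  have hlast : Q (b (Fin.last n) : V) = 1 := by
    rcases hbl with h | h
    · rw [hval, h]
    · exfalso
      refine hα ?_
      rw [List.map_ofFn, List.prod_ofFn, Fin.prod_univ_castSucc] at hsq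
      simp only [Function.comp_apply, hval] at hsq
      rwa [Finset.prod_eq_one fun i _ => hb1 _ (Fin.castSucc_lt_last i).ne, one_mul, h] at hsq
  have hone : ∀ i, Q (b i : V) = 1 := fun i => by
    by_cases hi : i = Fin.last n
    · rw [hi, hlast]
    · rw [hval, hb1 i hi]
  let eq : Fin 2 × Fin c ≃ Fin (n + 1) := finProdFinEquiv.trans (finCongr (by omega))
  refine ⟨c, by omega, ?_, fun p => (b (eq p) : V), ⟨fun p => hone _, fun p p' h => hperp' _ _ (eq.injective.ne h)⟩,
    fun p => (hE _).mp (b _).2, fun u hu => hfix u ?_⟩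
  · by_contra hcd
    have hEtop : E = ⊤ := Submodule.eq_top_of_finrank_eq (by
      have := Submodule.finrank_le E
      omega)
    obtain ⟨v, hv⟩ := h1'
    exact hv ((hE v).mp (hEtop ▸ trivial))
  · rw [← hspanE]
    refine mem_perp_span fun i => ?_
    have := hu (eq.symm i)
    simpa only [Equiv.apply_symm_apply] using this

/-- Involutions. -/
theorem fix_one (hQ : Forms.Nondeg Q) (h2 : (2 : F) ≠ 0) {d : ℕ} (hdim : finrank F V = 2 * d) (hd : 0 < d)
    (hJ : JData Q J δ) (hval : HasValues Q J) {x : Forms.orth Q} (hxC : x ∈ commutator (Forms.orth Q))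
    (hxx : ∀ v, x.1 (x.1 v) = v) (h1 : ∃ v, x.1 v ≠ v) (h1' : ∃ v, x.1 v ≠ -v) :
    ∃ g ∈ commutator (Forms.orth Q), NormJ J (g⁻¹ * x * g).1 := by
  obtain ⟨c, hc, hcd, e, he, hxe, hxfix⟩ := neg_space hQ h2 hdim hd hxC hxx h1 h1'
  obtain ⟨w, -, hw, hwJ⟩ := exists_lines hJ h2 hval (d - 1) ⊤ (fun _ _ => trivial) (nd_top hQ) (by
    rw [finrank_top]; omega)
  let t : Fin 2 × Fin c → V := fun p => w (p.1, p.2.castLE (by omega))
  have ht : Ortho Q t := ⟨fun p => hw.one _, fun p p' h => hw.perp _ _ fun h' => h (by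
    rw [Prod.mk.injEq] at h'
    exact Prod.ext h'.1 (Fin.castLE_injective _ h'.2))⟩
  obtain ⟨h, hh⟩ := exists_orth_map hQ h2 he ht
  obtain ⟨v, hv, u, hu, hv0, hvs, hus⟩ := exists_class_vectors h2 (he.nd h2) (by
    rw [finrank_span_eq_card (he.li h2), Fintype.card_prod, Fintype.card_fin, Fintype.card_fin]; omega)
  have hneg : ∀ z ∈ Submodule.span F (Set.range e), x.1 z = -z := fun z hz => by
    obtain ⟨k, rfl⟩ := (Submodule.mem_span_range_iff_exists_fun F).mp hz
    rw [map_sum, ← Finset.sum_neg_distrib]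
    exact Finset.sum_congr rfl fun p _ => by rw [map_smul, hxe, smul_neg]
  have hcomm : ∀ z ∈ Submodule.span F (Set.range e), Commute (orefl Q z) x := fun z hz => by
    have h3 : x * orefl Q z * x⁻¹ = orefl Q z := Subtype.ext (by
      show x.1 * refl Q z * x.1⁻¹ = refl Q z
      rw [refl_conj x.2, hneg z hz, ← neg_one_smul F z, refl_smul Q (neg_ne_zero.mpr one_ne_zero)])
    exact (mul_inv_eq_iff_eq_mul.mp h3).symm
  set y := h * x * h⁻¹ with hy
  have hyJ : NormJ J y.1 := by
    let W := Submodule.span F (Set.range t)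
    have hJW : ∀ z ∈ W, J z ∈ W := span_inv (f := J) fun p => Submodule.span_le.mpr
      (by rintro _ ⟨i, rfl⟩; exact Submodule.subset_span ⟨(i, p.2), rfl⟩) (hwJ p.1 _)
    have hyW : ∀ z ∈ W, y.1 z = -z := fun z hz => by
      obtain ⟨k, rfl⟩ := (Submodule.mem_span_range_iff_exists_fun F).mp hz
      rw [map_sum, ← Finset.sum_neg_distrib]
      refine Finset.sum_congr rfl fun p _ => ?_
      rw [map_smul, ← smul_neg, ← hh p]
      show k p • h.1 (x.1 (h⁻¹.1 (h.1 (e p)))) = _
      rw [OrthOmega.orth_inv_apply_apply, hxe, map_neg]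
    have hyP : ∀ z ∈ perp Q W, y.1 z = z := fun z hz => by
      show h.1 (x.1 (h⁻¹.1 z)) = z
      rw [hxfix _ fun p => ?_, OrthOmega.orth_apply_inv_apply]
      rw [← orth_polar h.2, OrthOmega.orth_apply_inv_apply, hh]
      exact perp_of_span hz p
    refine Or.inl fun z => ?_
    obtain ⟨a, ha, b, hb, rfl⟩ := Submodule.mem_sup.mp
      ((sup_perp hQ (ht.nd h2)).1.sup_eq_top.ge (Submodule.mem_top (x := z)))
    rw [map_add, map_add, map_add, map_add, hyW _ (hJW a ha), hyW a ha, hyP _ (hJ.perp_inv hJW b hb), hyP b hb,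
      map_neg]
  have key : ∀ c' : Forms.orth Q, Commute c' x → h * c' ∈ commutator (Forms.orth Q) →
      ∃ g ∈ commutator (Forms.orth Q), NormJ J (g⁻¹ * x * g).1 := fun c' hc' hmem => by
    refine ⟨(h * c')⁻¹, Subgroup.inv_mem _ hmem, ?_⟩
    rwa [inv_inv, mul_inv_rev, show h * c' * x * (c'⁻¹ * h⁻¹) = h * (c' * x * c'⁻¹) * h⁻¹ by group,
      hc'.eq, mul_inv_cancel_right]
  rcases exists_class_fix hQ h2 (by omega) h hv0 hvs hus with h3 | h3 | h3 | h3
  · exact key 1 (Commute.one_left _) (by rwa [mul_one])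
  · exact key _ (hcomm v hv) h3
  · exact key _ (hcomm u hu) h3
  · exact key _ ((hcomm v hv).mul_left (hcomm u hu)) (by rwa [← mul_assoc])

omit [Finite V] in
/-- Planes of a square root of `-1`. -/
theorem exists_rotation (hQ : Forms.Nondeg Q) (h2 : (2 : F) ≠ 0) (x : Forms.orth Q) (hxx : ∀ v, x.1 (x.1 v) = -v) :
    ∀ (k : ℕ) (X : Submodule F V), (∀ v ∈ X, x.1 v ∈ X) → Nd Q X → 2 * k ≤ finrank F X →
      ∃ e : Fin 2 × Fin k → V, (∀ p, e p ∈ X) ∧ Ortho Q e ∧ ∀ l, x.1 (e (0, l)) = e (1, l) := by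
  intro k
  induction k with
  | zero => exact fun X _ _ _ => ⟨fun p => p.2.elim0, fun p => p.2.elim0,
      ⟨fun p => p.2.elim0, fun p => p.2.elim0⟩, fun l => l.elim0⟩
  | succ k ih =>
    intro X hxX hX hdim
    obtain ⟨⟨v, hv⟩, hQv⟩ := exists_Q_eq (res_nondeg hX) (by omega) 1
    have hQv' : Q v = 1 := hQv
    have hperp0 : polar Q v (x.1 v) = 0 := by
      have h := orth_polar x.2 v (x.1 v)
      rw [hxx, polar_neg_right, polar_comm Q (x.1 v) v] at h
      exact (mul_eq_zero.mp (show (2 : F) * polar Q v (x.1 v) = 0 by linear_combination -h)).resolve_left h2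
    let u : Fin 2 → V := ![v, x.1 v]
    have huX : ∀ i, u i ∈ X := fun i => by fin_cases i; exacts [hv, hxX v hv]
    have hu : Ortho Q u := ⟨fun i => by fin_cases i; exacts [hQv', (x.2 v).trans hQv'], fun i l hil => by
      fin_cases i <;> fin_cases l
      · exact absurd rfl hil
      · exact hperp0
      · exact (polar_comm Q _ _).trans hperp0
      · exact absurd rfl hil⟩
    set P := Submodule.span F (Set.range u) with hP
    have hPX : P ≤ X := Submodule.span_le.mpr (by rintro _ ⟨i, rfl⟩; exact huX i)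
    obtain ⟨hY, -, hYd⟩ := split (W := P) (hu.nd h2) hX hPX
    have hPd : finrank F P = 2 := by rw [hP, finrank_span_eq_card (hu.li h2), Fintype.card_fin]
    have hinv : ∀ z ∈ X ⊓ perp Q P, x.1 z ∈ X ⊓ perp Q P := fun z hz => ⟨hxX z hz.1, mem_perp_span fun i => by
      have h0 : ∀ i, polar Q (u i) z = 0 := fun i => perp_of_span hz.2 i
      fin_cases i
      · have h := orth_polar x.2 v (x.1 z)
        rw [hxx, polar_neg_right] at h
        show polar Q v (x.1 z) = 0
        rw [← h, show polar Q (x.1 v) z = 0 from h0 1, neg_zero]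
      · exact (orth_polar x.2 v z).trans (h0 0)⟩
    obtain ⟨w, hw, hwo, hwx⟩ := ih _ hinv hY (by omega)
    let W : Fin 2 × Fin (k + 1) → V := fun p =>
      Fin.cases (motive := fun _ => V) (u p.1) (fun l => w (p.1, l)) p.2
    have hperp : ∀ i p, polar Q (u i) (w p) = 0 := fun i p => perp_of_span (hw p).2 i
    refine ⟨W, ?_, ⟨?_, ?_⟩, ?_⟩
    · rintro ⟨i, l⟩
      induction l using Fin.cases with
      | zero => exact huX i
      | succ l => exact (hw (i, l)).1
    · rintro ⟨i, l⟩
      induction l using Fin.cases with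
      | zero => exact hu.one i
      | succ l => exact hwo.one (i, l)
    · rintro ⟨i, l⟩ ⟨i', l'⟩ hne
      induction l using Fin.cases with
      | zero =>
        induction l' using Fin.cases with
        | zero => exact hu.perp i i' fun h => hne (by rw [h])
        | succ l' => exact hperp i (i', l')
      | succ l =>
        induction l' using Fin.cases with
        | zero => exact (polar_comm Q _ _).trans (hperp i' (i, l))
        | succ l' => exact hwo.perp _ _ fun h => hne (by
            rw [Prod.mk.injEq] at h ⊢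
            exact ⟨h.1, congrArg Fin.succ h.2⟩)
    · intro l
      induction l using Fin.cases with
      | zero => rfl
      | succ l => exact hwx l

/-- Anticommuting square roots of `-1` stable on a plane. -/
structure Rot (J : Module.End F V) (L : Submodule F V) (y : Forms.orth Q) : Prop where
  sq : ∀ v, y.1 (y.1 v) = -v
  anti : ∀ v, y.1 (J v) = -(J (y.1 v))
  inv : ∀ v ∈ L, y.1 v ∈ L

omit [Finite F] [Finite V] in
theorem Rot.flip (hQ : Forms.Nondeg Q) (h2 : (2 : F) ≠ 0) (hJ : JData Q J δ) {L : Submodule F V}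
    (hL : Nd Q L) (hLd : finrank F L = 2) (hJL : ∀ v ∈ L, J v ∈ L) {y : Forms.orth Q} (hy : Rot J L y)
    {v : V} (hv : v ∈ L) (hQv : Q v ≠ 0) : Rot J L (orefl Q v * y * orefl Q v) := by
  set y' := orefl Q v * y * orefl Q v with hy'
  have hap : ∀ z, y'.1 z = refl Q v (y.1 (refl Q v z)) := fun z => rfl
  have hperp0 : polar Q v (y.1 v) = 0 := by
    have h := orth_polar y.2 v (y.1 v)
    rw [hy.sq, polar_neg_right, polar_comm Q (y.1 v) v] at h
    exact (mul_eq_zero.mp (show (2 : F) * polar Q v (y.1 v) = 0 by linear_combination -h)).resolve_left h2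
  have hv' : y'.1 v = -(y.1 v) := by
    rw [hap, refl_self Q hQv, map_neg, map_neg, refl_fix Q hperp0]
  have hyv' : y'.1 (y.1 v) = -(y.1 (y.1 v)) := by
    rw [hap, refl_fix Q hperp0, hy.sq, map_neg, refl_self Q hQv]
  have hspan : L = Submodule.span F (Set.range ![v, y.1 v]) := by
    have hli : LinearIndependent F ![v, y.1 v] := by
      have hv0 : v ≠ 0 := fun h => hQv (by rw [h, QuadraticMap.map_zero])
      rw [LinearIndependent.pair_iff' hv0]
      intro c hc
      have h1 := congrArg (fun z => polar Q v z) hc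
      simp only [polar_smul_right, hperp0, polar_self', smul_eq_mul, mul_eq_zero, h2, hQv, or_false] at h1
      rw [h1, zero_smul] at hc
      exact hv0 ((map_eq_zero_iff _ y.1.injective).mp hc.symm)
    refine (Submodule.eq_of_le_of_finrank_eq (Submodule.span_le.mpr ?_) ?_).symm
    · rintro _ ⟨i, rfl⟩
      fin_cases i
      · exact hv
      · exact hy.inv v hv
    · rw [finrank_span_eq_card hli, hLd, Fintype.card_fin]
  have honL : ∀ z ∈ L, y'.1 z = -(y.1 z) := fun z hz => by
    rw [hspan] at hz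
    obtain ⟨k, rfl⟩ := (Submodule.mem_span_range_iff_exists_fun F).mp hz
    rw [Fin.sum_univ_two]
    simp only [Matrix.cons_val_zero, Matrix.cons_val_one, Matrix.cons_val_fin_one, map_add, map_smul, hv', hyv']
    module
  have hPy : ∀ z ∈ perp Q L, y.1 z ∈ perp Q L := fun z hz => mem_perp.mpr fun l hl => by
    have h := orth_polar y.2 l (y.1 z)
    rw [hy.sq, polar_neg_right, mem_perp.mp hz _ (hy.inv l hl), neg_zero] at h
    exact h.symm
  have honP : ∀ z ∈ perp Q L, y'.1 z = y.1 z := fun z hz => by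
    rw [hap, refl_fix Q (mem_perp.mp hz v hv), refl_fix Q (mem_perp.mp (hPy z hz) v hv)]
  have hdec := fun z => Submodule.mem_sup.mp ((sup_perp hQ hL).1.sup_eq_top.ge (Submodule.mem_top (x := z)))
  refine ⟨fun z => ?_, fun z => ?_, fun z hz => by rw [honL z hz]; exact L.neg_mem (hy.inv z hz)⟩
  · obtain ⟨a, ha, b, hb, rfl⟩ := hdec z
    rw [map_add, map_add, honL a ha, honP b hb, map_neg, honL _ (hy.inv a ha), honP _ (hPy b hb), hy.sq, hy.sq]
    abel
  · obtain ⟨a, ha, b, hb, rfl⟩ := hdec z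
    rw [map_add, map_add, map_add, map_add, honL _ (hJL a ha), honL a ha, honP _ (hJ.perp_inv hJL b hb), honP b hb,
      hy.anti, hy.anti, map_neg]
    abel

/-- Square roots of `-1`. -/
theorem fix_neg (hQ : Forms.Nondeg Q) (h2 : (2 : F) ≠ 0) {d : ℕ} (hdim : finrank F V = 2 * d) (hd : 2 ≤ d)
    (hJ : JData Q J δ) (hval : HasValues Q J) {x : Forms.orth Q} (hxx : ∀ v, x.1 (x.1 v) = -v) :
    ∃ g ∈ commutator (Forms.orth Q), NormJ J (g⁻¹ * x * g).1 := by
  obtain ⟨k, rfl⟩ : ∃ k, d = k + 1 := ⟨d - 1, by omega⟩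
  obtain ⟨e, -, he, hxe⟩ := exists_rotation hQ h2 x hxx (k + 1) ⊤ (fun _ _ => trivial) (nd_top hQ) (by
    rw [finrank_top]; omega)
  obtain ⟨w, -, hw, hwJ⟩ := exists_lines hJ h2 hval k ⊤ (fun _ _ => trivial) (nd_top hQ) (by
    rw [finrank_top]; omega)
  obtain ⟨h, hh⟩ := exists_orth_map hQ h2 (v := fun p : Fin 2 × Fin k => e (p.1, p.2.castSucc))
    ⟨fun p => he.one _, fun p p' hp => he.perp _ _ fun h' => hp (by
      rw [Prod.mk.injEq] at h'
      exact Prod.ext h'.1 (Fin.castSucc_injective _ h'.2))⟩ hw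
  let f : Fin 2 × Fin (k + 1) → V := fun p => h.1 (e p)
  have hf : Ortho Q f := ⟨fun p => (h.2 _).trans (he.one p), fun p p' hp => (orth_polar h.2 _ _).trans (he.perp p p' hp)⟩
  have hfw : ∀ i l, f (i, Fin.castSucc l) = w (i, l) := fun i l => hh (i, l)
  have htop : Submodule.span F (Set.range f) = ⊤ := Submodule.eq_top_of_finrank_eq (by
    rw [finrank_span_eq_card (hf.li h2), hdim, Fintype.card_prod, Fintype.card_fin, Fintype.card_fin])
  have hline : ∀ l i, J (f (i, l)) ∈ Submodule.span F (Set.range fun i' => f (i', l)) := by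
    intro l i
    induction l using Fin.lastCases with
    | cast l => simpa only [hfw] using hwJ i l
    | last =>
      obtain ⟨c, hc⟩ := (Submodule.mem_span_range_iff_exists_fun F).mp (htop.ge (Submodule.mem_top (x := J (f (i, Fin.last k)))))
      rw [← hc]
      refine Submodule.sum_mem _ fun p _ => ?_
      obtain ⟨i', l'⟩ := p
      induction l' using Fin.lastCases with
      | last => exact Submodule.smul_mem _ _ (Submodule.subset_span ⟨i', rfl⟩)
      | cast l' =>
        have hz : c (i', Fin.castSucc l') = 0 := by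
          have h1 := hf.polar_sum c (i', Fin.castSucc l')
          rw [hc, hJ.sa] at h1
          obtain ⟨k', hk'⟩ := (Submodule.mem_span_range_iff_exists_fun F).mp (hwJ i' l')
          rw [hfw, ← hk'] at h1
          simp only [Fin.sum_univ_two, polar_add_right, polar_smul_right, ← hfw,
            hf.perp (i, Fin.last k) (_, Fin.castSucc l') (fun h' => (Fin.castSucc_lt_last l').ne' (congrArg Prod.snd h')),
            smul_zero, add_zero] at h1
          exact (mul_eq_zero.mp h1.symm).resolve_right h2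
        rw [hz, zero_smul]
        exact Submodule.zero_mem _
  set y := h * x * h⁻¹ with hy
  have hap : ∀ z, y.1 z = h.1 (x.1 (h⁻¹.1 z)) := fun z => rfl
  have hy0 : ∀ l, y.1 (f (0, l)) = f (1, l) := fun l => by
    rw [hap, OrthOmega.orth_inv_apply_apply, hxe]
  have hysq : ∀ z, y.1 (y.1 z) = -z := fun z => by
    rw [hap, hap z, OrthOmega.orth_inv_apply_apply, hxx, map_neg, OrthOmega.orth_apply_inv_apply]
  have hy1 : ∀ l, y.1 (f (1, l)) = -f (0, l) := fun l => by rw [← hy0, hysq]
  let L := Submodule.span F (Set.range fun i => f (i, (⟨0, by omega⟩ : Fin (k + 1))))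
  have hyrot : Rot J L y := by
    refine ⟨hysq, fun z => ?_, fun z hz => span_inv (f := (y.1 : V →ₗ[F] V)) (fun i => ?_) z hz⟩
    · have key : (y.1 : V →ₗ[F] V) ∘ₗ J = -(J ∘ₗ (y.1 : V →ₗ[F] V)) := by
        refine LinearMap.ext_on htop ?_
        rintro _ ⟨⟨i, l⟩, rfl⟩
        obtain ⟨a, b, ha, hb⟩ := plane_form hJ h2 (u := fun i => f (i, l))
          ⟨fun i => hf.one _, fun i i' h' => hf.perp _ _ fun h'' => h' (congrArg Prod.fst h'')⟩ (hline l)
        fin_cases i
        · simp only [LinearMap.comp_apply, LinearMap.neg_apply, LinearEquiv.coe_coe, Fin.zero_eta, hy0, ha, hb,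
            map_add, map_smul, hy1]
          module
        · simp only [LinearMap.comp_apply, LinearMap.neg_apply, LinearEquiv.coe_coe, Fin.mk_one, hy0, ha, hb,
            map_sub, map_smul, hy1, map_neg]
          module
      exact LinearMap.congr_fun key z
    · fin_cases i
      · show y.1 (f (0, _)) ∈ _
        rw [hy0]
        exact Submodule.subset_span ⟨1, rfl⟩
      · show y.1 (f (1, _)) ∈ _
        rw [hy1]
        exact Submodule.neg_mem _ (Submodule.subset_span ⟨0, rfl⟩)
  have hLo : Ortho Q (fun i => f (i, (⟨0, by omega⟩ : Fin (k + 1)))) :=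
    ⟨fun i => hf.one _, fun i i' h' => hf.perp _ _ fun h'' => h' (congrArg Prod.fst h'')⟩
  have hLnd : Nd Q L := hLo.nd h2
  have hLd : finrank F L = 2 := by rw [finrank_span_eq_card (hLo.li h2), Fintype.card_fin]
  have hJL : ∀ z ∈ L, J z ∈ L := span_inv (f := J) (hline _)
  obtain ⟨v, hv, u, hu, hv0, hvs, hus⟩ := exists_class_vectors h2 hLnd hLd.ge
  have hu0 : Q u ≠ 0 := fun h0 => hus (h0 ▸ IsSquare.zero)
  have key : ∀ c' : Forms.orth Q, Rot J L (c'⁻¹ * y * c') → h⁻¹ * c' ∈ commutator (Forms.orth Q) →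
      ∃ g ∈ commutator (Forms.orth Q), NormJ J (g⁻¹ * x * g).1 := fun c' hc' hmem =>
    ⟨_, hmem, Or.inr (by
      rw [mul_inv_rev, inv_inv, show c'⁻¹ * h * x * (h⁻¹ * c') = c'⁻¹ * y * c' by rw [hy]; group]
      exact hc'.anti)⟩
  rcases exists_class_fix hQ h2 (by omega) h⁻¹ hv0 hvs hus with h3 | h3 | h3 | h3
  · exact key 1 (by rwa [inv_one, one_mul, mul_one]) (by rwa [mul_one])
  · exact key _ (by rw [orefl_inv]; exact hyrot.flip hQ h2 hJ hLnd hLd hJL hv hv0) h3
  · exact key _ (by rw [orefl_inv]; exact hyrot.flip hQ h2 hJ hLnd hLd hJL hu hu0) h3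
  · refine key (orefl Q v * orefl Q u) ?_ (by rwa [← mul_assoc])
    rw [mul_inv_rev, orefl_inv, orefl_inv,
      show orefl Q u * orefl Q v * y * (orefl Q v * orefl Q u) =
        orefl Q u * (orefl Q v * y * orefl Q v) * orefl Q u by group]
    exact (hyrot.flip hQ h2 hJ hLnd hLd hJL hv hv0).flip hQ h2 hJ hLnd hLd hJL hu hu0

end Cfsg.Agent.Lib.Elusive.ExtFieldOrth
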