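import Cfsg.Agent.Lib.Elusive.ExtFieldOrth.Index
import Cfsg.Agent.Lib.Elusive.ExtFieldOrth.Two
import Cfsg.Agent.Lib.Forms.Bridge
import Cfsg.Agent.Lib.K41.ExtForm.OfMatrix

/-!
Elements of prime order of `Ω(Q)`, `Q` of even dimension over a field of odd order, and normalisers of
self-adjoint quadratic extension fields.
Owner: helper88.
-/

set_option autoImplicit false
open scoped MatrixGroups

namespace Cfsg.Agent.Lib.Elusive.ExtFieldOrth

open Module QuadraticMap Cfsg.Agent.Lib.Forms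
open scoped Matrix

variable {F : Type*} [Field F] {ι : Type} [Fintype ι] [DecidableEq ι]

local notation "Mat" => Matrix ι ι F
local notation "Vec" => (ι → F)

section Field

variable {k : ℕ} {K : Subalgebra F (Matrix ι ι F)}

theorem comm_of_pow [Fintype F] [Nonempty ι] (hk : k.Prime) (hK : Cfsg.Geo.IsFieldSubalgebra k K) {x : GL ι F}
    (hx : x ∈ Cfsg.Geo.subalgebraNormalizer K) {r : ℕ} (hr : r.Prime) (hrk : r ≠ k) (hxr : x ^ r = 1)
    (a : Mat) (ha : a ∈ K) : (x : Mat) * a = a * (x : Mat) := by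
  letI : Field K := K41.ExtForm.fieldOfSub hK
  haveI : Finite K := Finite.of_injective (fun x : K => (x : Mat)) Subtype.val_injective
  let Ψ : Cfsg.Geo.subalgebraNormalizer K →* (K ≃ₐ[F] K) :=
    { toFun := fun g =>
        { toFun := fun c => ⟨((g : GL ι F) : Mat) * c * (((g : GL ι F)⁻¹ : GL ι F) : Mat), (g.2 _).1 c.2⟩
          invFun := fun c => ⟨(((g : GL ι F)⁻¹ : GL ι F) : Mat) * c * ((g : GL ι F) : Mat), by
            have := ((Cfsg.Geo.subalgebraNormalizer K).inv_mem g.2 _).1 c.2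
            rwa [inv_inv] at this⟩
          left_inv := fun c => Subtype.ext (by simp [mul_assoc])
          right_inv := fun c => Subtype.ext (by simp [mul_assoc])
          map_mul' := fun c e => Subtype.ext (by simp [mul_assoc])
          map_add' := fun c e => Subtype.ext (by simp [mul_add, add_mul])
          commutes' := fun t => Subtype.ext (by simp [Algebra.algebraMap_eq_smul_one]) }
      map_one' := AlgEquiv.ext fun c => Subtype.ext (by simp)
      map_mul' := fun g e => AlgEquiv.ext fun c => Subtype.ext (by simp [mul_assoc]) }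
  have h1 : Ψ ⟨x, hx⟩ = 1 := by
    refine orderOf_eq_one_iff.mp (Nat.dvd_one.mp ?_)
    rw [← (Nat.coprime_primes hr hk).mpr hrk]
    refine Nat.dvd_gcd (orderOf_dvd_of_pow_eq_one ?_) ?_
    · rw [← map_pow, show (⟨x, hx⟩ : Cfsg.Geo.subalgebraNormalizer K) ^ r = 1 from Subtype.ext hxr, map_one]
    · have := orderOf_dvd_natCard (Ψ ⟨x, hx⟩)
      rwa [IsGalois.card_aut_eq_finrank, show finrank F K = k from hK.finrank_eq] at this
  have h2 := congrArg Subtype.val (AlgEquiv.congr_fun h1 ⟨a, ha⟩)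
  calc (x : Mat) * a = (x : Mat) * a * ((x⁻¹ : GL ι F) : Mat) * (x : Mat) := by rw [Units.inv_mul_cancel_right]
    _ = a * (x : Mat) := congrArg (fun c => c * (x : Mat)) h2

theorem exists_sqrt_gen [Fintype F] [Nonempty ι] (h2 : (2 : F) ≠ 0) (hK : Cfsg.Geo.IsFieldSubalgebra 2 K) :
    ∃ J ∈ K, ∃ δ : F, J * J = δ • 1 ∧ (∀ c : F, δ ≠ c * c) ∧ ∀ a ∈ K, ∃ s t : F, a = s • 1 + t • J := by
  obtain ⟨j, hj, hjs⟩ : ∃ j ∈ K, ∀ c : F, j ≠ c • (1 : Mat) := by
    by_contra h
    push Not at h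
    have : (⊤ : Submodule F K) ≤ Submodule.span F {(1 : K)} := fun a _ => by
      obtain ⟨c, hc⟩ := h a a.2
      exact Submodule.mem_span_singleton.mpr ⟨c, Subtype.ext hc.symm⟩
    have h1 := Submodule.finrank_mono this
    rw [finrank_top, hK.finrank_eq] at h1
    have h3 : finrank F (Submodule.span F ({(1 : K)} : Set K)) ≤ 1 :=
      (finrank_span_le_card ({(1 : K)} : Set K)).trans (by simp)
    omega
  have hli : LinearIndependent F ![(1 : K), ⟨j, hj⟩] := by
    rw [LinearIndependent.pair_iff' (fun h => one_ne_zero (α := Mat) (congrArg Subtype.val h))]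
    exact fun a ha => hjs a (congrArg Subtype.val ha).symm
  let bF := basisOfLinearIndependentOfCardEqFinrank hli (by rw [hK.finrank_eq, Fintype.card_fin])
  have hcombo : ∀ a ∈ K, ∃ s t : F, a = s • 1 + t • j := fun a ha => by
    refine ⟨bF.repr ⟨a, ha⟩ 0, bF.repr ⟨a, ha⟩ 1, ?_⟩
    have := congrArg Subtype.val (bF.sum_repr ⟨a, ha⟩)
    rw [Fin.sum_univ_two] at this
    simpa [bF] using this.symm
  obtain ⟨s, t, hst⟩ := hcombo _ (K.mul_mem hj hj)
  set J := j - (t / 2) • (1 : Mat) with hJ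
  have hJK : J ∈ K := K.sub_mem hj (K.smul_mem K.one_mem _)
  have hJs : ∀ c : F, J ≠ c • 1 := fun c hc => hjs (c + t / 2) (by rw [add_smul, ← hc, hJ, sub_add_cancel])
  have hJJ : J * J = (s + t / 2 * (t / 2)) • 1 := by
    rw [hJ, sub_mul, mul_sub, mul_sub, hst, Matrix.smul_mul, Matrix.mul_smul, Matrix.smul_mul,
      one_mul, mul_one, Matrix.mul_smul, mul_one, smul_smul]
    match_scalars <;> field_simp <;> ring
  refine ⟨J, hJK, _, hJJ, fun c hc => ?_, fun a ha => ?_⟩
  · have h1 : (J - c • 1) * (J + c • 1) = 0 := by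
      rw [sub_mul, mul_add, mul_add, hJJ, hc, Matrix.mul_smul, mul_one, Matrix.smul_mul, one_mul,
        Matrix.smul_mul, one_mul, smul_smul]
      abel
    obtain ⟨y, hy, hy1⟩ := hK.inv _ (K.sub_mem hJK (K.smul_mem K.one_mem c)) (sub_ne_zero.mpr (hJs c))
    refine hJs (-c) ?_
    have hy2 : y * (J - c • 1) = 1 := (hK.comm y hy _ (K.sub_mem hJK (K.smul_mem K.one_mem c))).trans hy1
    rw [neg_smul, eq_neg_iff_add_eq_zero]
    calc J + c • 1 = y * (J - c • 1) * (J + c • 1) := by rw [hy2, one_mul]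
      _ = 0 := by rw [mul_assoc, h1, mul_zero]
  · obtain ⟨s', t', h⟩ := hcombo a ha
    refine ⟨s' + t' * (t / 2), t', ?_⟩
    rw [h, hJ, smul_sub, smul_smul, add_smul]
    abel

theorem mem_of_twist [Finite F] {J : Mat} (hJ : J ∈ K) (hKJ : ∀ a ∈ K, ∃ s t : F, a = s • 1 + t • J)
    (y : GL ι F) (s : F) (h : ∀ v, (y : Mat) *ᵥ (J *ᵥ v) = s • (J *ᵥ ((y : Mat) *ᵥ v))) :
    y ∈ Cfsg.Geo.subalgebraNormalizer K := by
  refine K41.ExtForm.mem_normalizer_of_semi K y fun c hc => ?_
  obtain ⟨a, b, rfl⟩ := hKJ c hc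
  refine ⟨a • 1 + (b * s) • J, K.add_mem (K.smul_mem K.one_mem _) (K.smul_mem hJ _), fun v => ?_⟩
  simp only [Matrix.add_mulVec, Matrix.smul_mulVec, Matrix.one_mulVec, Matrix.mulVec_add, Matrix.mulVec_smul,
    h, smul_smul]

end Field

section Bridge

variable (Q : QuadraticForm F (ι → F))

theorem mem_omega {o : Forms.orth Q} (h : o ∈ commutator (Forms.orth Q)) :
    Forms.glEquiv.symm o.1 ∈ Cfsg.Geo.omegaGL ⇑Q := by
  refine ⟨(Forms.toOrth Q).symm o, (Orth52.mem_Omega_iff_orth Q (fun _ => rfl) _).mpr ?_, ?_⟩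
  · rwa [MulEquiv.apply_symm_apply]
  · refine Forms.glEquiv.injective (LinearEquiv.ext fun v => ?_)
    rw [MulEquiv.apply_symm_apply, Forms.glEquiv_apply]
    exact ((isoOrth_apply Q (fun _ => rfl) _ v).symm.trans
      (LinearEquiv.congr_fun (congrArg Subtype.val (MulEquiv.apply_symm_apply (Forms.toOrth Q) o)) v))

theorem of_omega {x : GL ι F} (h : x ∈ Cfsg.Geo.omegaGL ⇑Q) :
    ∃ o ∈ commutator (Forms.orth Q), (o : Forms.orth Q).1 = Forms.glEquiv x := by
  obtain ⟨g, hg, rfl⟩ := h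
  refine ⟨Forms.toOrth Q g, (Orth52.mem_Omega_iff_orth Q (fun _ => rfl) g).mp hg, LinearEquiv.ext fun v => ?_⟩
  rw [Forms.glEquiv_apply]
  exact isoOrth_apply Q (fun _ => rfl) g v

end Bridge

/-- The criterion. -/
theorem main [Fintype F] {p : ℕ} [Fact p.Prime] [CharP F p] (hodd : Odd (Fintype.card F)) (d : ℕ) (hd : 4 ≤ d)
    (hι : Fintype.card ι = 2 * d) (Q : QuadraticForm F (ι → F)) (hQ : Forms.Nondeg Q)
    (K : Subalgebra F (Matrix ι ι F)) (hK : Cfsg.Geo.IsFieldSubalgebra 2 K)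
    (hKf : Cfsg.Geo.IsSelfAdjointFor (QuadraticMap.polar ⇑Q) K) (r : ℕ) [Fact r.Prime]
    (hΩ : r ∣ (Cfsg.Geo.subalgebraNormalizer K).relIndex (Cfsg.Geo.omegaGL ⇑Q)) :
    (∀ x ∈ Cfsg.Geo.omegaGL ⇑Q, (∃ z : F, ((x ^ r : GL ι F) : Mat) = z • (1 : Mat)) →
      (∀ z : F, (x : Mat) ≠ z • (1 : Mat)) →
      ∃ g ∈ Cfsg.Geo.omegaGL ⇑Q, g⁻¹ * x * g ∈ Cfsg.Geo.subalgebraNormalizer K) ↔ r = 2 := by
  classical
  have hr : r.Prime := Fact.out
  have h2 : (2 : F) ≠ 0 := Ring.two_ne_zero fun h0 => by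
    have := FiniteField.even_card_iff_char_two.mp h0
    rw [Nat.odd_iff] at hodd
    omega
  haveI : Nonempty ι := Fintype.card_pos_iff.mp (by omega)
  have hdim : finrank F Vec = 2 * d := by rw [finrank_fintype_fun_eq_card, hι]
  obtain ⟨Jm, hJm, δ, hJJ, hδ, hKJ⟩ := exists_sqrt_gen h2 hK
  set J : Module.End F Vec := Matrix.toLin' Jm with hJdef
  have hJ : JData Q J δ := ⟨fun v => by
      rw [hJdef, Matrix.toLin'_apply, Matrix.toLin'_apply, Matrix.mulVec_mulVec, hJJ, Matrix.smul_mulVec,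
        Matrix.one_mulVec],
    fun u v => hKf Jm hJm u v, hδ⟩
  -- the structure over the extension
  letI : Field K := K41.ExtForm.fieldOfSub hK
  letI hmod : Module K Vec := K41.ExtForm.subModule K
  haveI : @IsScalarTower F K Vec Algebra.toSMul hmod.toSMul inferInstance :=
    ⟨fun a c x => Matrix.smul_mulVec a (c : Mat) x⟩
  haveI : Finite K := Finite.of_injective (fun x : K => (x : Mat)) Subtype.val_injective
  letI : Fintype K := Fintype.ofFinite K
  haveI : FiniteDimensional F K := Module.Finite.of_finite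
  have hj : ∀ v : Vec, (⟨Jm, hJm⟩ : K) • v = J v := fun v => (Matrix.toLin'_apply Jm v).symm
  have D : KData Q (⟨Jm, hJm⟩ : K) δ := by
    refine ⟨Subtype.ext ?_, fun c => ?_, fun u v => ?_, hδ⟩
    · exact hJJ.trans (Algebra.algebraMap_eq_smul_one δ).symm
    · obtain ⟨s, t, hst⟩ := hKJ c c.2
      refine ⟨s, t, Subtype.ext ?_⟩
      show (c : Mat) = algebraMap F Mat s + algebraMap F Mat t * Jm
      rw [hst, Algebra.algebraMap_eq_smul_one, Algebra.algebraMap_eq_smul_one, Matrix.smul_mul, one_mul]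
    · show polar Q (Jm *ᵥ u) v = polar Q u (Jm *ᵥ v)
      exact hKf Jm hJm u v
  have hK2 : finrank F K = 2 := hK.finrank_eq
  have hval : HasValues Q J := fun X hX hXnd hX4 s t => by
    obtain ⟨v, hv, h1, h3⟩ := D.exists_value h2 hK2 (fun v hv => by
      show Jm *ᵥ v ∈ X
      exact Matrix.toLin'_apply Jm v ▸ hX v hv) hXnd hX4 s t
    exact ⟨v, hv, h1, by rw [hJdef, Matrix.toLin'_apply]; exact h3⟩
  have hnorm : ∀ o : Forms.orth Q, NormJ J o.1 → Forms.glEquiv.symm o.1 ∈ Cfsg.Geo.subalgebraNormalizer K := by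
    intro o ho
    have hap : ∀ v, ((Forms.glEquiv.symm o.1 : GL ι F) : Mat) *ᵥ v = o.1 v := fun v => by
      rw [← Forms.glEquiv_apply, MulEquiv.apply_symm_apply]
    rcases ho with h | h
    · exact mem_of_twist hJm hKJ _ 1 fun v => by
        rw [hap, hap, one_smul, ← Matrix.toLin'_apply, ← Matrix.toLin'_apply Jm, ← hJdef, h]
    · exact mem_of_twist hJm hKJ _ (-1) fun v => by
        rw [hap, hap, neg_one_smul, ← Matrix.toLin'_apply, ← Matrix.toLin'_apply Jm, ← hJdef, h]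
  have hconj : ∀ (g o : Forms.orth Q) (x : GL ι F), o.1 = Forms.glEquiv x →
      Forms.glEquiv.symm (g⁻¹ * o * g).1 = (Forms.glEquiv.symm g.1)⁻¹ * x * Forms.glEquiv.symm g.1 := by
    intro g o x ho
    refine Forms.glEquiv.injective ?_
    rw [MulEquiv.apply_symm_apply, map_mul, map_mul, map_inv, MulEquiv.apply_symm_apply, ← ho]
    rfl
  rcases eq_or_ne r 2 with rfl | hr2
  · refine iff_of_true (fun x hx ⟨z, hz⟩ hns => ?_) rfl
    obtain ⟨o, hoC, ho⟩ := of_omega Q hx
    have hap : ∀ v, o.1 v = (x : Mat) *ᵥ v := fun v => by rw [ho, Forms.glEquiv_apply]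
    have hoo : ∀ v, o.1 (o.1 v) = z • v := fun v => by
      rw [hap, hap, Matrix.mulVec_mulVec, ← Units.val_mul, ← pow_two, hz, Matrix.smul_mulVec, Matrix.one_mulVec]
    obtain ⟨v₀, hv₀⟩ := exists_Q_eq hQ (by omega : 2 ≤ finrank F Vec) (1 : F)
    have hz2 : z * z = 1 := by
      have := (o.2 (o.1 v₀)).trans (o.2 v₀)
      rwa [hoo, Q_smul, hv₀, mul_one] at this
    have hns' : ∀ c : F, ∃ v, o.1 v ≠ c • v := fun c => by
      by_contra h
      push Not at h
      exact hns c (K41.ExtForm.mat_ext' fun v => by rw [← hap, h, Matrix.smul_mulVec, Matrix.one_mulVec])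
    obtain ⟨g, hg, hgN⟩ : ∃ g ∈ commutator (Forms.orth Q), NormJ J (g⁻¹ * o * g).1 := by
      rcases mul_self_eq_one_iff.mp hz2 with rfl | rfl
      · exact fix_one hQ h2 hdim (by omega) hJ hval hoC (fun v => by rw [hoo, one_smul])
          (by simpa using hns' 1) (by simpa using hns' (-1))
      · exact fix_neg hQ h2 hdim (by omega) hJ hval (fun v => by rw [hoo, neg_one_smul])
    exact ⟨_, mem_omega Q hg, hconj g o x ho ▸ hnorm _ hgN⟩
  refine iff_of_false (fun hall => ?_) hr2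
  have hn2 : 2 ≤ finrank F Vec := by omega
  have hrodd := hr.odd_of_ne_two hr2
  -- an element of order `r` moving something would have a conjugate commuting with `J`
  have hder : ∀ o : Forms.orth Q, o ^ r = 1 →
      0 < finrank F (LinearMap.range ((o.1 : Module.End F Vec) - 1)) →
      ∃ g : Forms.orth Q, ∀ v, ((g⁻¹ * o * g).1 : Vec ≃ₗ[F] Vec) (J v) = J ((g⁻¹ * o * g).1 v) := by
    intro o hor hpos
    obtain ⟨x, hx⟩ : ∃ x : GL ι F, o.1 = Forms.glEquiv x := ⟨_, (MulEquiv.apply_symm_apply _ _).symm⟩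
    have hxr : x ^ r = 1 := Forms.glEquiv.injective (by
      rw [map_pow, map_one, ← hx]
      exact congrArg Subtype.val hor)
    have hxΩ : x ∈ Cfsg.Geo.omegaGL ⇑Q := by
      have := mem_omega Q (mem_commutator_of_odd hQ h2 hn2 hrodd hor)
      rwa [hx, MulEquiv.symm_apply_apply] at this
    obtain ⟨g', hg', hgN⟩ := hall x hxΩ ⟨1, by rw [hxr, Units.val_one, one_smul]⟩ fun c hc => by
      have hov : ∀ v, o.1 v = c • v := fun v => by
        rw [hx, Forms.glEquiv_apply, hc, Matrix.smul_mulVec, Matrix.one_mulVec]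
      obtain ⟨v, hv⟩ := exists_Q_eq hQ hn2 (1 : F)
      have hcc : c * c = 1 := by
        have := o.2 v
        rwa [hov, Q_smul, hv, mul_one] at this
      have hcr : c ^ r = 1 := by
        have h1 := congrArg Units.val hxr
        rw [Units.val_pow_eq_pow_val, hc, _root_.smul_pow, one_pow, Units.val_one] at h1
        exact smul_left_injective F (one_ne_zero (α := Mat)) (h1.trans (one_smul F 1).symm)
      obtain ⟨s, hs⟩ := hrodd
      rw [hs, pow_succ, pow_mul, pow_two, hcc, one_pow, one_mul] at hcr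
      have h0 : ((o.1 : Module.End F Vec) - 1) = 0 := LinearMap.ext fun v => by
        rw [LinearMap.sub_apply, LinearEquiv.coe_coe, hov, hcr, one_smul, Module.End.one_apply, sub_self,
          LinearMap.zero_apply]
      rw [h0, LinearMap.range_zero, finrank_bot] at hpos
      exact lt_irrefl _ hpos
    obtain ⟨g, -, hg⟩ := of_omega Q hg'
    refine ⟨g, fun v => ?_⟩
    have hyr : (g'⁻¹ * x * g') ^ r = 1 := by
      have := conj_pow (i := r) (a := g'⁻¹) (b := x)
      rw [inv_inv] at this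
      rw [this, hxr, mul_one, inv_mul_cancel]
    have hc := comm_of_pow Nat.prime_two hK hgN hr hr2 hyr Jm hJm
    have hap : ∀ v, ((g⁻¹ * o * g).1 : Vec ≃ₗ[F] Vec) v = ((g'⁻¹ * x * g' : GL ι F) : Mat) *ᵥ v := fun v => by
      rw [← Forms.glEquiv_apply, map_mul, map_mul, map_inv, ← hg, ← hx]
      rfl
    rw [hap, hap, hJdef, Matrix.toLin'_apply, Matrix.toLin'_apply, Matrix.mulVec_mulVec, Matrix.mulVec_mulVec, hc]
  have hrange : ∀ g o : Forms.orth Q,
      finrank F (LinearMap.range (((g⁻¹ * o * g).1 : Module.End F Vec) - 1)) =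
        finrank F (LinearMap.range ((o.1 : Module.End F Vec) - 1)) := by
    intro g o
    have h1 : (((g⁻¹ * o * g).1 : Module.End F Vec) - 1) =
        (g.1.symm : Vec →ₗ[F] Vec) ∘ₗ ((o.1 : Module.End F Vec) - 1) ∘ₗ (g.1 : Vec →ₗ[F] Vec) :=
      LinearMap.ext fun v => by
        simp only [LinearMap.sub_apply, Module.End.one_apply, LinearMap.comp_apply, LinearEquiv.coe_coe,
          map_sub, LinearEquiv.symm_apply_apply]
        rfl
    rw [h1, LinearMap.range_comp, LinearMap.range_comp_of_range_eq_top _ (LinearEquiv.range g.1),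
      LinearEquiv.finrank_map_eq]
  by_cases hrp : r = p
  · subst hrp
    obtain ⟨o, hor, ho2, hoTT⟩ := exists_siegel r hQ (by omega)
    obtain ⟨g, hg⟩ := hder o hor (by omega)
    refine plane_false (f := ((g⁻¹ * o * g).1 : Module.End F Vec)) hQ h2 hJ (g⁻¹ * o * g).2 (fun u v => ?_) hg
      ((hrange g o).trans ho2)
    have h1 : ∀ u, (((g⁻¹ * o * g).1 : Module.End F Vec) - 1) u =
        g⁻¹.1 (((o.1 : Module.End F Vec) - 1) (g.1 u)) := fun u => by
      simp only [LinearMap.sub_apply, Module.End.one_apply, LinearEquiv.coe_coe, map_sub,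
        OrthOmega.orth_inv_apply_apply]
      rfl
    rw [h1, h1, orth_polar g⁻¹.2, hoTT]
  have hrF : (r : F) ≠ 0 := fun h0 =>
    hrp ((Nat.prime_dvd_prime_iff_eq Fact.out hr).mp ((CharP.cast_eq_zero_iff F p r).mp h0)).symm
  have hrq : ¬ r ∣ Fintype.card F := fun h => by
    obtain ⟨f, -, hf⟩ := FiniteField.card F p
    exact hrp ((Nat.prime_dvd_prime_iff_eq hr Fact.out).mp (hr.dvd_of_dvd_pow (hf ▸ h)))
  -- the index of the orthogonal group over the extension
  let G := Cfsg.isometryGroup F (⇑Q)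
  let φ : Forms.orth D.form →* G := (Forms.toOrth Q).symm.toMonoidHom.comp (D.toOrth h2)
  have hφ : Function.Injective φ := (Forms.toOrth Q).symm.injective.comp (D.toOrth_injective h2)
  have hle : φ.range ≤ (Cfsg.Geo.subalgebraNormalizer K).comap G.subtype := by
    rintro _ ⟨g, rfl⟩
    refine K41.ExtForm.mem_normalizer_of_semi K _ fun c hc => ⟨c, hc, fun v => ?_⟩
    have h1 : ∀ v, ((φ g : GL ι F) : Mat) *ᵥ v = (D.toOrth h2 g).1 v := fun v =>
      ((isoOrth_apply Q (fun _ => rfl) (φ g) v).symm.trans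
        (LinearEquiv.congr_fun (congrArg Subtype.val (MulEquiv.apply_symm_apply (Forms.toOrth Q) _)) v))
    show ((φ g : GL ι F) : Mat) *ᵥ (c *ᵥ v) = c *ᵥ (((φ g : GL ι F) : Mat) *ᵥ v)
    rw [h1, h1]
    exact D.toOrth_smul h2 g ⟨c, hc⟩ v
  have hHΩ : r ∣ φ.range.relIndex (Cfsg.Omega F (⇑Q)) := by
    have h1 := hΩ
    rw [Cfsg.Geo.omegaGL, ← Subgroup.relIndex_comap] at h1
    exact h1.trans (Subgroup.relIndex_dvd_of_le_left _ hle)
  haveI : (Cfsg.Omega F (⇑Q)).Normal := by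
    show (commutator G).Normal
    infer_instance
  have hΩ4 : (Cfsg.Omega F (⇑Q)).index = 4 := finite_index_Omega hQ h2 hn2
  have hH : r ∣ φ.range.index := by
    have h1 := Subgroup.relIndex_mul_index (inf_le_right : φ.range ⊓ Cfsg.Omega F (⇑Q) ≤ _)
    have h3 := Subgroup.relIndex_mul_index (inf_le_left : φ.range ⊓ Cfsg.Omega F (⇑Q) ≤ _)
    rw [Subgroup.inf_relIndex_right] at h1
    rw [Subgroup.inf_relIndex_left] at h3
    have h4 : r ∣ (Cfsg.Omega F (⇑Q)).relIndex φ.range * φ.range.index := by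
      rw [h3, ← h1]; exact dvd_mul_of_dvd_left hHΩ _
    refine (hr.dvd_mul.mp h4).resolve_left fun h5 => hr2 ?_
    have h6 := h5.trans (Subgroup.relIndex_dvd_index_of_normal _ _)
    rw [hΩ4] at h6
    exact (Nat.prime_dvd_prime_iff_eq hr Nat.prime_two).mp (hr.dvd_of_dvd_pow (show r ∣ 2 ^ 2 from h6))
  have hcard : Nat.card (Forms.orth Q) = φ.range.index * Nat.card (Forms.orth D.form) := by
    rw [← Nat.card_congr (Forms.toOrth Q).toEquiv, ← Subgroup.index_mul_card φ.range,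
      Nat.card_congr (MonoidHom.ofInjective hφ).toEquiv]
  obtain ⟨l, hl, hld⟩ := D.index_level h2 hQ hK2 (d := d) (by omega) hdim hcard hr hrq hH
  -- a piece
  haveI : Finite (Vec ≃ₗ[F] Vec) :=
    Finite.of_injective (fun g v => g v) fun g g' h => LinearEquiv.ext (congrFun h)
  obtain ⟨g₀, hg₀⟩ := exists_prime_orderOf_dvd_card' r (show r ∣ Nat.card (Forms.orth Q) by
    rw [hcard]; exact dvd_mul_of_dvd_left hH _)
  obtain ⟨o, hor, hoc⟩ := exists_piece_element hQ h2 hr2 hrF g₀ (by rw [← hg₀, pow_orderOf_eq_one])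
    (fun h => by rw [h, orderOf_one] at hg₀; exact hr.one_lt.ne hg₀)
  have hipos : 0 < SympPieces.pieceDim (orderOf (Fintype.card F : ZMod r)) := by
    have := orderOf_card_pos (F := F) hrF
    unfold SympPieces.pieceDim
    split <;> omega
  obtain ⟨g, hg⟩ := hder o hor (by rw [hoc]; exact hipos)
  have hy : (g⁻¹ * o * g) ^ r = 1 := by
    have := conj_pow (i := r) (a := g⁻¹) (b := o)
    rw [inv_inv] at this
    rw [this, hor, mul_one, inv_mul_cancel]
  obtain ⟨e, he, he0, heven⟩ := piece_type (f := ((g⁻¹ * o * g).1 : Module.End F Vec))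
    ⟨(g⁻¹ * o * g).2, (orth_pow_eq_one_iff _ r).mp hy, hr2, hrF⟩ hQ h2 hJ hg ((hrange g o).trans hoc)
  have hord : orderOf (Fintype.card F : ZMod r) ∣ 2 * l := by
    rw [← ZMod.natCast_eq_zero_iff, Nat.cast_sub (Nat.one_le_pow _ _ Fintype.card_pos), Nat.cast_pow,
      Nat.cast_one, sub_eq_zero] at hld
    exact orderOf_dvd_of_pow_eq_one hld
  rw [he, ← two_mul, Nat.mul_dvd_mul_iff_left (by norm_num)] at hord
  exact Nat.not_even_iff_odd.mpr hl (even_iff_two_dvd.mpr (heven.two_dvd.trans hord))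

end Cfsg.Agent.Lib.Elusive.ExtFieldOrth
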