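import Cfsg.Agent.Lib.Elusive.ExtFieldOrth.Basic
import Cfsg.Agent.Lib.OrthOmega.Structure
import Cfsg.Agent.S5976

/-!
Isometries of odd prime order of a quadratic space: pieces, witnesses of small rank, and what it means
for such a piece to commute with a self-adjoint square root of a non-square.
Owner: helper88.
-/

set_option autoImplicit false

namespace Cfsg.Agent.Lib.Elusive.ExtFieldOrth

open Module QuadraticMap Polynomial Cfsg.Agent.Lib.Forms Cfsg.Agent.Lib.Elusive.SympPieces

variable {F : Type*} [Field F] {V : Type*} [AddCommGroup V] [Module F V]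

/-- An isometry of odd prime order prime to the characteristic. -/
structure Root (Q : QuadraticForm F V) (f : Module.End F V) (r : ℕ) : Prop where
  iso : ∀ v, Q (f v) = Q v
  pow : f ^ r = 1
  two : r ≠ 2
  natCast : (r : F) ≠ 0

/-- A self-adjoint square root of a non-square. -/
structure JData (Q : QuadraticForm F V) (J : Module.End F V) (δ : F) : Prop where
  sq : ∀ v, J (J v) = δ • v
  sa : ∀ u v, polar Q (J u) v = polar Q u (J v)
  nsq : ∀ c : F, δ ≠ c * c

variable {Q : QuadraticForm F V} {f J : Module.End F V} {δ : F} {r : ℕ} {W X : Submodule F V}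

theorem JData.ne_zero (hJ : JData Q J δ) : δ ≠ 0 := fun h => hJ.nsq 0 (by rw [h, mul_zero])

theorem JData.not_eigen (hJ : JData Q J δ) {v : V} {c : F} (h : J v = c • v) : v = 0 := by
  have h1 := hJ.sq v
  rw [h, map_smul, h, smul_smul] at h1
  by_contra hv
  exact hJ.nsq c (smul_left_injective F hv h1.symm)

theorem JData.injective (hJ : JData Q J δ) : Function.Injective J :=
  (injective_iff_map_eq_zero J).mpr fun v hv => hJ.not_eigen (c := 0) (by rw [hv, zero_smul])

theorem iso_polar (hf : ∀ v, Q (f v) = Q v) (u v : V) : polar Q (f u) (f v) = polar Q u v :=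
  polar_map f hf u v

theorem Root.iso_pow (h : Root Q f r) (k : ℕ) (u v : V) : polar Q ((f ^ k) u) ((f ^ k) v) = polar Q u v := by
  induction k with
  | zero => simp
  | succ k ih => rw [pow_succ', Module.End.mul_apply, Module.End.mul_apply, iso_polar h.iso, ih]

theorem pow_mem_of_inv (hW : Lib.Elusive.Inv f W) (k : ℕ) {x : V} (hx : x ∈ W) : (f ^ k) x ∈ W := by
  induction k with
  | zero => simpa using hx
  | succ k ih => rw [pow_succ', Module.End.mul_apply]; exact hW.mem ih

theorem aeval_mem_of_inv (hW : Lib.Elusive.Inv f W) (g : F[X]) {x : V} (hx : x ∈ W) : aeval f g x ∈ W := by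
  rw [aeval_eq_sum_range, LinearMap.sum_apply]
  exact W.sum_mem fun k _ => W.smul_mem _ (pow_mem_of_inv hW k hx)

variable [hr : Fact r.Prime]

theorem Root.adjoint (h : Root Q f r) (m : F[X]) (u v : V) :
    polar Q (aeval (f ^ (r - 1)) m u) v = polar Q u (aeval f m v) := by
  induction m using Polynomial.induction_on' with
  | add p q hp hq => simp only [map_add, LinearMap.add_apply, polar_add_left, polar_add_right, hp, hq]
  | monomial k a =>
    rw [aeval_monomial, aeval_monomial, Module.End.mul_apply, Module.End.mul_apply,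
      Module.algebraMap_end_apply, Module.algebraMap_end_apply, polar_smul_left, polar_smul_right,
      ← h.iso_pow k, ← Module.End.mul_apply, ← pow_mul, ← pow_add,
      show k + (r - 1) * k = r * k by
        conv_rhs => rw [← Nat.sub_add_cancel hr.out.one_le, Nat.add_mul, one_mul, add_comm],
      pow_mul, h.pow, one_pow, Module.End.one_apply]

theorem Root.inv_perp (h : Root Q f r) (hW : Lib.Elusive.Inv f W) : Lib.Elusive.Inv f (perp Q W) := by
  refine Lib.Elusive.Inv.of_mem fun x hx => mem_perp.mpr fun w hw => ?_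
  have h1 := iso_polar h.iso ((f ^ (r - 1)) w) x
  rw [← Module.End.mul_apply, ← pow_succ', Nat.sub_add_cancel hr.out.one_le, h.pow,
    Module.End.one_apply, mem_perp.mp hx _ (pow_mem_of_inv hW _ hw)] at h1
  exact h1

/-- The moved part. -/
theorem Root.range_split [FiniteDimensional F V] (h : Root Q f r) (hQ : Forms.Nondeg Q) :
    Lib.Elusive.Inv f (LinearMap.range (f - 1)) ∧ Nd Q (LinearMap.range (f - 1)) ∧
      LinearMap.range (f - 1) ⊓ End.eigenspace f (1 : F) = ⊥ := by
  have hker : LinearMap.ker (f - 1) = End.eigenspace f (1 : F) := by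
    rw [End.eigenspace_def, one_smul]
  have hdisj : LinearMap.range (f - 1) ⊓ LinearMap.ker (f - 1) = ⊥ := by
    rw [Submodule.eq_bot_iff]
    rintro u ⟨⟨w, rfl⟩, hu⟩
    have hfu : f ((f - 1) w) = (f - 1) w := sub_eq_zero.mp hu
    have hpw : ∀ k : ℕ, (f ^ k) w = w + (k : F) • (f - 1) w := by
      intro k
      induction k with
      | zero => simp
      | succ k ih =>
        rw [pow_succ', Module.End.mul_apply, ih, map_add, map_smul, hfu, LinearMap.sub_apply,
          Module.End.one_apply, Nat.cast_succ]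
        module
    have h1 := hpw r
    rw [h.pow, Module.End.one_apply, left_eq_add, smul_eq_zero] at h1
    exact h1.resolve_left h.natCast
  have hsup : LinearMap.range (f - 1) ⊔ LinearMap.ker (f - 1) = ⊤ := by
    refine Submodule.eq_top_of_finrank_eq ?_
    rw [finrank_sup_of_disjoint hdisj, LinearMap.finrank_range_add_finrank_ker]
  have hperp : ∀ w, ∀ k ∈ LinearMap.ker (f - 1), polar Q ((f - 1) w) k = 0 := fun w k hk => by
    have hfk : f k = k := sub_eq_zero.mp hk
    have h1 := iso_polar h.iso w k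
    rw [hfk] at h1
    rw [LinearMap.sub_apply, Module.End.one_apply, polar_sub_left, h1, sub_self]
  refine ⟨Lib.Elusive.Inv.of_mem ?_, ?_, hker ▸ hdisj⟩
  · rintro _ ⟨w, rfl⟩
    exact ⟨f w, by simp⟩
  · rintro _ ⟨w, rfl⟩ hw
    refine hQ _ fun y => ?_
    obtain ⟨a, ha, b, hb, rfl⟩ := Submodule.mem_sup.mp (hsup.ge (Submodule.mem_top (x := y)))
    rw [polar_add_right, hw a ha, zero_add, hperp w b hb]

/-- A free invariant non-degenerate subspace is even dimensional. -/
theorem Root.even_nd [Fintype F] [FiniteDimensional F V] (h : Root Q f r) (h2 : (2 : F) ≠ 0)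
    (hW : Lib.Elusive.Inv f W) (hnd : Nd Q W) (hE : W ⊓ End.eigenspace f (1 : F) = ⊥) :
    Even (finrank F W) := by
  refine S5976.even_free (β := (polarBilin Q).compl₁₂ W.subtype W.subtype)
    (h := f.restrict fun x hx => hW.mem hx) (r := r)
    (fun u hu => Subtype.ext (hnd u u.2 fun y hy => hu ⟨y, hy⟩))
    (fun u v => iso_polar h.iso (u : V) (v : V)) (hr.out.odd_of_ne_two h.two)
    (LinearMap.ext fun u => Subtype.ext (by rw [restrict_pow_apply, h.pow]; rfl)) h2
    (fun u hu => Subtype.ext ((Submodule.mem_bot F).mp (hE.le ⟨u.2, End.mem_eigenspace_iff.mpr (by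
      rw [one_smul]; exact congrArg Subtype.val hu)⟩)))

variable [Fintype F] [FiniteDimensional F V]

theorem Root.uniform (h : Root Q f r) : IsUniform f 1 (orderOf (Fintype.card F : ZMod r)) :=
  isUniform_split h.natCast one_ne_zero (by rw [one_pow, one_smul, h.pow])

theorem card_pow_half (h : Root Q f r) {e : ℕ} (he : orderOf (Fintype.card F : ZMod r) = e + e) :
    0 < e ∧ (Fintype.card F : ZMod r) ^ e = -1 := by
  have hpos := h.uniform.pos
  refine ⟨by omega, ?_⟩
  have h1 : ((Fintype.card F : ZMod r) ^ e - 1) * ((Fintype.card F : ZMod r) ^ e + 1) = 0 := by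
    have h3 := pow_orderOf_eq_one (Fintype.card F : ZMod r)
    rw [he, pow_add] at h3
    linear_combination h3
  rcases mul_eq_zero.mp h1 with h3 | h3
  · exfalso
    have h4 := Nat.le_of_dvd (by omega) (orderOf_dvd_of_pow_eq_one (sub_eq_zero.mp h3))
    omega
  · exact eq_neg_of_add_eq_zero_left h3

/-- The polynomial of the inverse is the Frobenius power of the polynomial. -/
theorem Root.aeval_inv (h : Root Q f r) {e : ℕ} (he : orderOf (Fintype.card F : ZMod r) = e + e) (m : F[X]) :
    aeval (f ^ (r - 1)) m = aeval f m ^ (Fintype.card F ^ e) := by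
  have hneg : ((Fintype.card F ^ e : ℕ) : ZMod r) = ((r - 1 : ℕ) : ZMod r) := by
    rw [Nat.cast_pow, (card_pow_half h he).2, Nat.cast_sub hr.out.one_le, ZMod.natCast_self,
      Nat.cast_one, zero_sub]
  rw [ZMod.natCast_eq_natCast_iff] at hneg
  have hmod : ∀ k, f ^ k = f ^ (k % r) := fun k => by
    conv_lhs => rw [← Nat.mod_add_div k r, pow_add, pow_mul, h.pow, one_pow, mul_one]
  have hf : f ^ (r - 1) = f ^ (Fintype.card F ^ e) := by
    rw [hmod, hmod (Fintype.card F ^ e)]
    exact congrArg _ hneg.symm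
  have hexp : ∀ n : ℕ, expand F (Fintype.card F ^ n) m = m ^ (Fintype.card F ^ n) := by
    intro n
    induction n with
    | zero => simp
    | succ n ih => rw [pow_succ' (Fintype.card F), expand_mul, ih, map_pow, FiniteField.expand_card, ← pow_mul]
  rw [hf, ← expand_aeval, hexp, map_pow]

/-- A free subspace contains an orthogonal piece. -/
theorem Root.exists_piece (h : Root Q f r) (h2 : (2 : F) ≠ 0) (hX : Lib.Elusive.Inv f X) (hnd : Nd Q X)
    (hE : X ⊓ End.eigenspace f (1 : F) = ⊥) (hne : X ≠ ⊥) :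
    ∃ W, W ≤ X ∧ Lib.Elusive.Inv f W ∧ Nd Q W ∧
      finrank F W = pieceDim (orderOf (Fintype.card F : ZMod r)) := by
  classical
  have hu := h.uniform
  set i := orderOf (Fintype.card F : ZMod r) with hi
  have hpos : 0 < finrank F X :=
    Nat.pos_of_ne_zero fun h0 => hne (Submodule.finrank_eq_zero.mp h0)
  obtain ⟨P, hPX, hP⟩ := hu.exists_piece hX (by rw [hE, finrank_bot]; exact hpos)
  have hPd : finrank F P = i := by rw [hP.2.2, zero_add, one_mul]
  have hPE : P ⊓ End.eigenspace f (1 : F) = ⊥ := Submodule.finrank_eq_zero.mp hP.2.1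
  obtain ⟨p₀, hp₀, hp₀0⟩ := Submodule.exists_mem_ne_zero_of_ne_bot (p := P) (fun h0 => by
    rw [h0, finrank_bot] at hPd; exact hu.pos.ne hPd)
  rcases (or_iff_not_imp_left.mpr fun hne' => by
      obtain ⟨u, hu', hu0⟩ := Submodule.exists_mem_ne_zero_of_ne_bot hne'
      exact le_antisymm inf_le_left (Decomp.piece_le hu hP (hP.1.inf (h.inv_perp hP.1)) hu'.1 hu0 hu') :
      P ⊓ perp Q P = ⊥ ∨ P ⊓ perp Q P = P) with hPn | hPs
  · have hPnd := nd_iff_inf_perp.mpr hPn
    exact ⟨P, hPX, hP.1, hPnd, by rw [hPd, pieceDim, if_pos (hPd ▸ h.even_nd h2 hP.1 hPnd hPE)]⟩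
  -- a totally singular piece and a partner
  have hsing : ∀ u ∈ P, ∀ v ∈ P, polar Q u v = 0 := fun u hu' v hv =>
    mem_perp.mp (inf_eq_left.mp hPs hv) u hu'
  obtain ⟨Z, hZ, hZX, hdisj, hsup⟩ :=
    exists_compl hu.semisimple hX (hX.inf (h.inv_perp hP.1)) inf_le_left
  have hZE : Z ⊓ End.eigenspace f (1 : F) = ⊥ := le_bot_iff.mp (hE ▸ inf_le_inf_right _ hZX)
  have hZY : ∀ z ∈ Z, (∀ p ∈ P, polar Q p z = 0) → z = 0 := fun z hz hpz =>
    (Submodule.mem_bot F).mp (hdisj.le ⟨⟨hZX hz, mem_perp.mpr hpz⟩, hz⟩)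
  have hPZ : ∀ p ∈ P, (∀ z ∈ Z, polar Q p z = 0) → p = 0 := fun p hp hpz =>
    hnd p (hPX hp) fun y hy => by
      obtain ⟨a, ha, b, hb, rfl⟩ := Submodule.mem_sup.mp (hsup.ge hy)
      rw [polar_add_right, mem_perp.mp ha.2 p hp, zero_add, hpz b hb]
  have hZd : finrank F Z = i := by
    obtain ⟨k, hk⟩ := hu.exists_type hZ
    have h1 : finrank F Z = k * i := hk.2.2.trans (by rw [hZE, finrank_bot, zero_add])
    let L : Z →ₗ[F] Module.Dual F P := ((polarBilin Q).compl₁₂ P.subtype Z.subtype).flip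
    have hL : Function.Injective L := (injective_iff_map_eq_zero L).mpr fun z hz =>
      Subtype.ext (hZY z z.2 fun p hp => LinearMap.congr_fun hz ⟨p, hp⟩)
    have h3 : finrank F Z ≤ i :=
      hPd ▸ (LinearMap.finrank_le_finrank_of_injective hL).trans Subspace.dual_finrank_eq.le
    rcases Nat.eq_zero_or_pos k with rfl | hk0
    · exfalso
      rw [zero_mul] at h1
      refine hp₀0 (hPZ p₀ hp₀ fun z hz => ?_)
      rw [Submodule.finrank_eq_zero.mp h1, Submodule.mem_bot] at hz
      rw [hz, polar_zero_right]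
    · have := Nat.le_mul_of_pos_left i hk0
      omega
  have hdPZ : P ⊓ Z = ⊥ := le_bot_iff.mp
    (hdisj ▸ le_inf (le_inf (inf_le_left.trans hPX) (inf_le_left.trans (inf_eq_left.mp hPs))) inf_le_right)
  have hWnd : Nd Q (P ⊔ Z) := by
    intro x hx hxy
    obtain ⟨p, hp, z, hz, rfl⟩ := Submodule.mem_sup.mp hx
    have hz0 : z = 0 := hZY z hz fun p' hp' => by
      have h1 := hxy p' (Submodule.mem_sup_left hp')
      rw [polar_add_left, hsing p hp p' hp', zero_add] at h1
      exact (polar_comm Q p' z).trans h1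
    have hp0 : p = 0 := hPZ p hp fun z' hz' => by
      have h1 := hxy z' (Submodule.mem_sup_right hz')
      rwa [hz0, add_zero] at h1
    rw [hp0, hz0, add_zero]
  have hWd : finrank F ↥(P ⊔ Z) = 2 * i := by rw [finrank_sup_of_disjoint hdPZ, hPd, hZd, two_mul]
  by_cases hev : Even i
  swap
  · exact ⟨P ⊔ Z, sup_le hPX hZX, hP.1.sup hZ, hWnd, by rw [hWd, pieceDim, if_neg hev]⟩
  -- both are killed by a polynomial of degree at most `i`
  have hPinv : ∀ x ∈ P, f x ∈ P := fun x hx => hP.1.mem hx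
  set m := minpoly F (f.restrict hPinv : Module.End F P) with hmdef
  have hmmon : m.Monic := minpoly.monic (Algebra.IsIntegral.isIntegral _)
  have hmdeg : m.natDegree ≤ i := by
    refine (natDegree_le_of_dvd (LinearMap.minpoly_dvd_charpoly _)
      (LinearMap.charpoly_monic _).ne_zero).trans ?_
    rw [LinearMap.charpoly_natDegree, hPd]
  have hmP : ∀ p ∈ P, aeval f m p = 0 := fun p hp => by
    have h1 := congrArg (fun g : Module.End F P => ((g ⟨p, hp⟩ : P) : V))
      (minpoly.aeval F (f.restrict hPinv : Module.End F P))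
    simp only [aeval_restrict_apply, LinearMap.zero_apply, ZeroMemClass.coe_zero] at h1
    exact h1
  obtain ⟨e, he⟩ := hev
  have hgP : ∀ p ∈ P, aeval (f ^ (r - 1)) m p = 0 := by
    intro p hp
    rw [h.aeval_inv he]
    obtain ⟨k, hk⟩ : ∃ k, Fintype.card F ^ e = k + 1 :=
      ⟨Fintype.card F ^ e - 1, (Nat.sub_add_cancel (Nat.one_le_pow _ _ Fintype.card_pos)).symm⟩
    rw [hk, pow_succ, Module.End.mul_apply, hmP p hp, map_zero]
  have hmW : ∀ v ∈ P ⊔ Z, aeval f m v = 0 := by
    intro v hv
    obtain ⟨p, hp, z, hz, rfl⟩ := Submodule.mem_sup.mp hv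
    rw [map_add, hmP p hp, zero_add]
    exact hZY _ (aeval_mem_of_inv hZ m hz) fun p' hp' => by
      rw [← h.adjoint, hgP p' hp', polar_zero_left]
  -- an anisotropic vector
  obtain ⟨v, hv, hv'⟩ : ∃ v ∈ P ⊔ Z, Q v ≠ 0 := by
    by_contra hcon
    push Not at hcon
    refine hp₀0 (hWnd p₀ (Submodule.mem_sup_left hp₀) fun y hy => ?_)
    rw [polar, hcon _ (Submodule.add_mem _ (Submodule.mem_sup_left hp₀) hy),
      hcon _ (Submodule.mem_sup_left hp₀), hcon _ hy, sub_zero, sub_zero]
  -- its cyclic span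
  set S := Submodule.span F (Set.range fun k : Fin m.natDegree => (f ^ (k : ℕ)) v) with hSdef
  have htop : (f ^ m.natDegree) v ∈ S := by
    have h1 := hmW v hv
    rw [aeval_eq_sum_range, LinearMap.sum_apply, Finset.sum_range_succ, LinearMap.smul_apply,
      hmmon.coeff_natDegree, one_smul] at h1
    rw [eq_neg_of_add_eq_zero_right h1]
    exact S.neg_mem (S.sum_mem fun k hk => S.smul_mem _ (Submodule.subset_span ⟨⟨k, Finset.mem_range.mp hk⟩, rfl⟩))
  have hdeg0 : 0 < m.natDegree := by
    haveI : Nontrivial P := Submodule.nontrivial_iff_ne_bot.mpr fun h0 => by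
      rw [h0, finrank_bot] at hPd; exact hu.pos.ne hPd
    exact minpoly.natDegree_pos (Algebra.IsIntegral.isIntegral _)
  have hSinv : Lib.Elusive.Inv f S := by
    rw [Lib.Elusive.Inv, hSdef, Submodule.map_span, Submodule.span_le]
    rintro _ ⟨_, ⟨k, rfl⟩, rfl⟩
    rw [SetLike.mem_coe, ← Module.End.mul_apply, ← pow_succ']
    by_cases hk : (k : ℕ) + 1 < m.natDegree
    · exact Submodule.subset_span ⟨⟨_, hk⟩, rfl⟩
    · rw [show (k : ℕ) + 1 = m.natDegree by omega]; exact htop
  have hvS : v ∈ S := Submodule.subset_span ⟨⟨0, hdeg0⟩, by simp⟩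
  have hSW : S ≤ P ⊔ Z := by
    rw [hSdef, Submodule.span_le]
    rintro _ ⟨k, rfl⟩
    exact pow_mem_of_inv (hP.1.sup hZ) _ hv
  have hSX : S ≤ X := hSW.trans (sup_le hPX hZX)
  have hSE : S ⊓ End.eigenspace f (1 : F) = ⊥ := le_bot_iff.mp (hE ▸ inf_le_inf_right _ hSX)
  have hv0 : v ≠ 0 := fun h0 => hv' (by rw [h0, QuadraticMap.map_zero])
  obtain ⟨k, hk⟩ := hu.exists_type hSinv
  have h1 : finrank F S = k * i := hk.2.2.trans (by rw [hSE, finrank_bot, zero_add])
  have hSd : finrank F S ≤ i := ((finrank_range_le_card _).trans (Fintype.card_fin _).le).trans hmdeg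
  have hk1 : k = 1 := by
    have hk0 : k ≠ 0 := by
      rintro rfl
      rw [zero_mul] at h1
      exact hv0 ((Submodule.mem_bot F).mp ((Submodule.finrank_eq_zero.mp h1).le hvS))
    by_contra hk1
    have := Nat.mul_le_mul_right i (show 2 ≤ k by omega)
    have := hu.pos
    omega
  subst hk1
  rw [one_mul] at h1
  refine ⟨S, hSX, hSinv, ?_, by rw [h1, pieceDim, if_pos ⟨e, he⟩]⟩
  rw [nd_iff_inf_perp, Submodule.eq_bot_iff]
  rintro u ⟨huS, huo⟩
  by_contra hu0
  have hSP : HasType f 1 i S 0 1 := ⟨hSinv, by rw [hSE, finrank_bot], by rw [h1, zero_add, one_mul]⟩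
  have hle := Decomp.piece_le hu hSP (h.inv_perp hSinv) huS hu0 huo
  have h3 := mem_perp.mp (hle hvS) v hvS
  rw [polar_self'] at h3
  exact hv' ((mul_eq_zero.mp h3).resolve_left h2)

/-- A piece commuting with `J`. -/
theorem piece_type (h : Root Q f r) (hQ : Forms.Nondeg Q) (h2 : (2 : F) ≠ 0) (hJ : JData Q J δ)
    (hfJ : ∀ v, f (J v) = J (f v))
    (hdim : finrank F (LinearMap.range (f - 1)) = pieceDim (orderOf (Fintype.card F : ZMod r))) :
    ∃ e, orderOf (Fintype.card F : ZMod r) = e + e ∧ 0 < e ∧ Even e := by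
  classical
  obtain ⟨hP, hnd, hPE⟩ := h.range_split hQ
  set P := LinearMap.range (f - 1) with hPdef
  have hJP : ∀ v ∈ P, J v ∈ P := by
    rintro _ ⟨w, rfl⟩
    exact ⟨J w, by simp [hfJ]⟩
  have hu := h.uniform
  set i := orderOf (Fintype.card F : ZMod r) with hidef
  by_cases hi : Even i
  swap
  · exfalso
    rw [pieceDim, if_neg hi] at hdim
    obtain ⟨U, hUP, hU⟩ := hu.exists_piece hP (by rw [hPE, finrank_bot, hdim]; have := hu.pos; omega)
    have hUd : finrank F U = i := by rw [hU.2.2, zero_add, one_mul]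
    have hUE : U ⊓ End.eigenspace f (1 : F) = ⊥ := Submodule.finrank_eq_zero.mp hU.2.1
    have hsimple : ∀ S ≤ U, Lib.Elusive.Inv f S → S = ⊥ ∨ S = U := by
      intro S hSU hSi
      refine or_iff_not_imp_left.mpr fun hS0 => ?_
      obtain ⟨u, huS, hu0⟩ := Submodule.exists_mem_ne_zero_of_ne_bot hS0
      exact le_antisymm hSU (Decomp.piece_le hu hU hSi (hSU huS) hu0 huS)
    have hiso : ∀ u ∈ U, ∀ v ∈ U, polar Q u v = 0 := by
      rcases hsimple _ inf_le_left (hU.1.inf (h.inv_perp hU.1)) with h' | h'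
      · exact absurd (hUd ▸ h.even_nd h2 hU.1 (nd_iff_inf_perp.mpr h') hUE) hi
      · exact fun u hu' v hv => mem_perp.mp (inf_eq_left.mp h' hv) u hu'
    set JU := U.map J with hJU
    have hJUi : Lib.Elusive.Inv f JU := Lib.Elusive.Inv.of_mem fun v hv => by
      obtain ⟨u, hu', rfl⟩ := hv
      exact ⟨f u, hU.1.mem hu', (hfJ u).symm⟩
    have hJUd : finrank F JU = i := by
      rw [← hUd]; exact (Submodule.equivMapOfInjective _ hJ.injective U).finrank_eq.symm
    rcases hsimple _ inf_le_left (hU.1.inf hJUi) with hdisj | heq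
    swap
    · have hmem : ∀ u ∈ U, J u ∈ U := fun u hu' => by
        have h1 : JU = U := (Submodule.eq_of_le_of_finrank_eq (inf_eq_left.mp heq) (hUd.trans hJUd.symm)).symm
        exact h1.le ⟨u, hu', rfl⟩
      have h1 : J.restrict hmem * J.restrict hmem = δ • (1 : Module.End F U) :=
        LinearMap.ext fun u => Subtype.ext (hJ.sq (u : V))
      have h3 := congrArg LinearMap.det h1
      rw [map_mul, LinearMap.det_smul, map_one, mul_one, hUd] at h3
      obtain ⟨s, hs⟩ := Nat.not_even_iff_odd.mp hi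
      rw [hs, pow_succ, two_mul s, pow_add] at h3
      refine hJ.nsq (LinearMap.det (J.restrict hmem) / δ ^ s) ?_
      have := hJ.ne_zero
      field_simp
      linear_combination -h3
    have hsup : U ⊔ JU = P := Submodule.eq_of_le_of_finrank_eq (sup_le hUP (by
        rintro _ ⟨u, hu', rfl⟩
        exact hJP u (hUP hu')))
      (by rw [finrank_sup_of_disjoint hdisj, hUd, hJUd, hdim, two_mul])
    have hev := S5976.even_free (β := (polarBilin Q).compl₁₂ U.subtype (J ∘ₗ U.subtype))
      (h := f.restrict fun x hx => hU.1.mem hx) (r := r)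
      (fun u hu' => Subtype.ext (hnd u (hUP u.2) fun y hy => by
        obtain ⟨a, ha, _, ⟨b, hb, rfl⟩, rfl⟩ := Submodule.mem_sup.mp (hsup.ge hy)
        rw [polar_add_right, hiso u u.2 a ha, zero_add]
        exact hu' ⟨b, hb⟩))
      (fun u v => by
        show polar Q (f (u : V)) (J (f (v : V))) = polar Q (u : V) (J (v : V))
        rw [← hfJ, iso_polar h.iso])
      (hr.out.odd_of_ne_two h.two)
      (LinearMap.ext fun u => Subtype.ext (by rw [restrict_pow_apply, h.pow]; rfl)) h2
      (fun u hu' => Subtype.ext ((Submodule.mem_bot F).mp (hUE.le ⟨u.2, End.mem_eigenspace_iff.mpr (by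
        rw [one_smul]; exact congrArg Subtype.val hu')⟩)))
    exact hi (hUd ▸ hev)
  rw [pieceDim, if_pos hi] at hdim
  obtain ⟨e, he⟩ := hi
  obtain ⟨hepos, -⟩ := card_pow_half h he
  refine ⟨e, he, hepos, ?_⟩
  have hPT : HasType f 1 i P 0 1 := ⟨hP, by rw [hPE, finrank_bot], by rw [hdim, zero_add, one_mul]⟩
  obtain ⟨v, hv, hv0⟩ := Submodule.exists_mem_ne_zero_of_ne_bot (p := P) (fun h0 => by
    rw [h0, finrank_bot] at hdim; omega)
  set L : F[X] →ₗ[F] V := (LinearMap.applyₗ v).comp (Polynomial.aeval f).toLinearMap with hL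
  have hLa : ∀ g, L g = aeval f g v := fun g => rfl
  have hle : P ≤ LinearMap.range L := Decomp.piece_le hu hPT (Lib.Elusive.Inv.of_mem (by
    rintro _ ⟨g, rfl⟩
    exact ⟨X * g, by rw [hLa, hLa, map_mul, aeval_X]; rfl⟩)) hv hv0 ⟨1, by rw [hLa, map_one]; rfl⟩
  obtain ⟨m, hm⟩ := hle (hJP v hv)
  rw [hLa] at hm
  have hcJ : Commute f J := LinearMap.ext hfJ
  have hcomm : ∀ g : F[X], ∀ u, J (aeval f g u) = aeval f g (J u) := fun g u => by
    have : Commute (aeval f g) J := by
      induction g using Polynomial.induction_on' with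
      | add a b ha hb => rw [map_add]; exact ha.add_left hb
      | monomial n c =>
        rw [aeval_monomial]
        exact (show Commute (algebraMap F (Module.End F V) c) J from Algebra.commutes c J).mul_left (hcJ.pow_left n)
    exact (LinearMap.congr_fun this.eq u).symm
  have hpJ : ∀ u ∈ P, aeval f m u = J u := by
    intro u hu'
    obtain ⟨g, rfl⟩ := hle hu'
    rw [hLa, hcomm, ← hm, ← Module.End.mul_apply, ← map_mul, mul_comm, map_mul, Module.End.mul_apply]
  have hk : ∀ (k : ℕ), ∀ u ∈ P, (aeval f m ^ k) u = (J ^ k) u ∧ (J ^ k) u ∈ P := by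
    intro k
    induction k with
    | zero => exact fun u hu' => ⟨rfl, hu'⟩
    | succ k ih =>
      intro u hu'
      obtain ⟨h1, h3⟩ := ih u hu'
      refine ⟨?_, ?_⟩
      · rw [pow_succ', pow_succ', Module.End.mul_apply, Module.End.mul_apply, h1, hpJ _ h3]
      · rw [pow_succ', Module.End.mul_apply]; exact hJP _ h3
  have hadj : (aeval (f ^ (r - 1)) m) v = J v := by
    rw [h.aeval_inv he]
    obtain ⟨h1, h3⟩ := hk (Fintype.card F ^ e) v hv
    rw [h1]
    refine sub_eq_zero.mp (hnd _ (P.sub_mem h3 (hJP v hv)) fun y hy => ?_)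
    rw [polar_sub_left, ← h1, ← h.aeval_inv he, h.adjoint, hpJ y hy, hJ.sa, sub_self]
  rw [h.aeval_inv he, (hk _ v hv).1] at hadj
  have hchar : ringChar F ≠ 2 := fun h0 => h2 (by exact_mod_cast (ringChar.spec F 2).mpr h0.dvd)
  obtain ⟨t, ht⟩ : Odd (Fintype.card F) := Nat.odd_iff.mpr (FiniteField.odd_card_of_char_ne_two hchar)
  have ht' : δ ^ t = -1 := by
    have h1 := FiniteField.pow_dichotomy hchar hJ.ne_zero
    rw [show Fintype.card F / 2 = t by omega] at h1
    refine h1.resolve_left fun h3 => ?_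
    obtain ⟨c, hc⟩ := (FiniteField.isSquare_iff hchar hJ.ne_zero).mpr
      (by rw [show Fintype.card F / 2 = t by omega]; exact h3)
    exact hJ.nsq c hc
  have hJJ : J * J = δ • (1 : Module.End F V) := LinearMap.ext hJ.sq
  have hJq : ∀ n : ℕ, J ^ (Fintype.card F ^ n) = ((-1 : F) ^ n) • J := by
    intro n
    induction n with
    | zero => simp
    | succ n ih =>
      rw [pow_succ, pow_mul, ih, _root_.smul_pow, ← pow_mul, mul_comm n (Fintype.card F), pow_mul,
        (show Odd (Fintype.card F) from ⟨t, ht⟩).neg_one_pow, show J ^ Fintype.card F = (-1 : F) • J by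
          rw [ht, pow_succ, pow_mul, pow_two, hJJ, _root_.smul_pow, one_pow, ht', smul_mul_assoc, one_mul],
        smul_smul, pow_succ]
  by_contra hodd
  rw [hJq, (Nat.not_even_iff_odd.mp hodd).neg_one_pow, LinearMap.smul_apply, neg_one_smul] at hadj
  have h3 : (2 : F) • J v = 0 := by rw [two_smul]; exact eq_neg_iff_add_eq_zero.mp hadj.symm
  exact hv0 (hJ.injective (((smul_eq_zero.mp h3).resolve_left h2).trans (map_zero J).symm))

omit [Fintype F] in
/-- An element with moved part a totally singular plane does not commute with `J`. -/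
theorem plane_false (hQ : Forms.Nondeg Q) (h2 : (2 : F) ≠ 0) (hJ : JData Q J δ)
    (hiso : ∀ v, Q (f v) = Q v) (hTT : ∀ u v, polar Q ((f - 1) u) ((f - 1) v) = 0)
    (hfJ : ∀ v, f (J v) = J (f v)) (hdim : finrank F (LinearMap.range (f - 1)) = 2) : False := by
  set T := f - 1 with hT
  have hskew : ∀ u v, polar Q (T u) v + polar Q u (T v) = 0 := fun u v => by
    have h1 := iso_polar hiso u v
    have h3 : ∀ w, f w = T w + w := fun w => by simp [hT]
    rw [h3, h3, polar_add_left, polar_add_right, polar_add_right, hTT] at h1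
    linear_combination h1
  have hTJ : ∀ v, T (J v) = J (T v) := fun v => by simp [hT, hfJ]
  obtain ⟨u, hu⟩ : ∃ u, T u ≠ 0 := by
    by_contra h
    push Not at h
    rw [show T = 0 from LinearMap.ext h, LinearMap.range_zero, finrank_bot] at hdim
    exact two_ne_zero hdim.symm
  refine hu (hQ _ fun w => ?_)
  have hli : LinearIndependent F ![T u, T (J u)] := by
    rw [LinearIndependent.pair_iff' hu]
    exact fun c hc => hu (hJ.not_eigen (c := c) (by rw [← hTJ]; exact hc.symm))
  have hspan : LinearMap.range T = Submodule.span F (Set.range ![T u, T (J u)]) := by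
    refine (Submodule.eq_of_le_of_finrank_eq (Submodule.span_le.mpr ?_) ?_).symm
    · rintro _ ⟨j, rfl⟩
      fin_cases j <;> exact ⟨_, rfl⟩
    · rw [finrank_span_eq_card hli, hdim, Fintype.card_fin]
  obtain ⟨c, hc⟩ := (Submodule.mem_span_range_iff_exists_fun F).mp (hspan.le ⟨w, rfl⟩ : T w ∈ _)
  rw [Fin.sum_univ_two] at hc
  set k := w - c 0 • u - c 1 • J u with hk
  have hTk : T k = 0 := by
    rw [hk, map_sub, map_sub, map_smul, map_smul, ← hc]
    simp
  have h1 : polar Q (T u) u = 0 := by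
    have := hskew u u
    rw [polar_comm Q u (T u)] at this
    exact (mul_eq_zero.mp (show (2 : F) * polar Q (T u) u = 0 by linear_combination this)).resolve_left h2
  have h3 : polar Q (T u) (J u) = 0 := by
    have := hskew (J u) u
    rw [hTJ, hJ.sa (T u) u, polar_comm Q (J u) (T u)] at this
    exact (mul_eq_zero.mp (show (2 : F) * polar Q (T u) (J u) = 0 by linear_combination this)).resolve_left h2
  have h4 : polar Q (T u) k = 0 := by
    have := hskew u k
    rwa [hTk, polar_zero_right, add_zero] at this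
  rw [show w = k + c 0 • u + c 1 • J u by rw [hk]; abel, polar_add_right, polar_add_right, polar_smul_right,
    polar_smul_right, h1, h3, h4, smul_zero, smul_zero, add_zero, add_zero]

omit [Fintype F] [FiniteDimensional F V] in
theorem coe_orth_pow (g : Forms.orth Q) (k : ℕ) :
    (((g ^ k : Forms.orth Q).1 : V ≃ₗ[F] V) : Module.End F V) = (g.1 : Module.End F V) ^ k := by
  induction k with
  | zero => rfl
  | succ k ih =>
    rw [pow_succ, pow_succ, ← ih]
    rfl

omit [Fintype F] [FiniteDimensional F V] hr in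
theorem orth_pow_eq_one_iff (g : Forms.orth Q) (k : ℕ) :
    g ^ k = 1 ↔ (g.1 : Module.End F V) ^ k = 1 := by
  rw [← coe_orth_pow]
  exact ⟨fun h => by rw [h]; rfl, fun h => Subtype.ext (LinearEquiv.toLinearMap_injective h)⟩

omit [Fintype F] [FiniteDimensional F V] in
/-- An isometry of finite order as a member of the orthogonal group. -/
theorem exists_orth {g : Module.End F V} (hg : ∀ v, Q (g v) = Q v) (hgr : g ^ r = 1) :
    ∃ o : Forms.orth Q, (o.1 : Module.End F V) = g ∧ o ^ r = 1 := by
  have h1 : g * g ^ (r - 1) = 1 := by rw [← pow_succ', Nat.sub_add_cancel hr.out.one_le, hgr]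
  have h3 : g ^ (r - 1) * g = 1 := by rw [← pow_succ, Nat.sub_add_cancel hr.out.one_le, hgr]
  let o : Forms.orth Q := ⟨LinearEquiv.ofLinearMap g (g ^ (r - 1)) h1 h3, hg⟩
  exact ⟨o, rfl, (orth_pow_eq_one_iff o r).mpr hgr⟩

/-- An element of order `r` yields one moving a single piece. -/
theorem exists_piece_element [Finite V] (hQ : Forms.Nondeg Q) (h2 : (2 : F) ≠ 0) (hr2 : r ≠ 2)
    (hrF : (r : F) ≠ 0) (g : Forms.orth Q) (hg : g ^ r = 1) (hg1 : g ≠ 1) :
    ∃ o : Forms.orth Q, o ^ r = 1 ∧
      finrank F (LinearMap.range ((o.1 : Module.End F V) - 1)) = pieceDim (orderOf (Fintype.card F : ZMod r)) := by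
  set f := (g.1 : Module.End F V) with hfdef
  have h : Root Q f r := ⟨g.2, (orth_pow_eq_one_iff g r).mp hg, hr2, hrF⟩
  obtain ⟨hX, hnd, hXE⟩ := h.range_split hQ
  have hne : LinearMap.range (f - 1) ≠ ⊥ := fun h0 => hg1 (by
    rw [LinearMap.range_eq_bot, sub_eq_zero] at h0
    exact Subtype.ext (LinearEquiv.toLinearMap_injective h0))
  obtain ⟨W, hWX, hW, hWnd, hWd⟩ := h.exists_piece h2 hX hnd hXE hne
  obtain ⟨hc, -⟩ := sup_perp hQ hWnd
  let f' : Module.End F V := LinearMap.ofIsCompl hc (f ∘ₗ W.subtype) (perp Q W).subtype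
  have hfW : ∀ w ∈ W, f' w = f w := fun w hw => LinearMap.ofIsCompl_apply_left hc ⟨w, hw⟩
  have hfP : ∀ u ∈ perp Q W, f' u = u := fun u hu => LinearMap.ofIsCompl_apply_right hc ⟨u, hu⟩
  have hdec : ∀ v, ∃ w ∈ W, ∃ u ∈ perp Q W, v = w + u := fun v => by
    obtain ⟨w, hw, u, hu, h0⟩ := Submodule.mem_sup.mp (hc.sup_eq_top.ge (Submodule.mem_top (x := v)))
    exact ⟨w, hw, u, hu, h0.symm⟩
  have hiso : ∀ v, Q (f' v) = Q v := fun v => by
    obtain ⟨w, hw, u, hu, rfl⟩ := hdec v
    rw [map_add, hfW w hw, hfP u hu, Q_add, Q_add, h.iso, mem_perp.mp hu w hw,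
      mem_perp.mp hu _ (hW.mem hw)]
  have hpow : f' ^ r = 1 := LinearMap.ext fun v => by
    obtain ⟨w, hw, u, hu, rfl⟩ := hdec v
    have hk : ∀ k, (f' ^ k) w = (f ^ k) w ∧ (f' ^ k) u = u := by
      intro k
      induction k with
      | zero => exact ⟨rfl, rfl⟩
      | succ k ih =>
        rw [pow_succ', pow_succ']
        simp only [Module.End.mul_apply]
        rw [ih.1, ih.2, hfW _ (pow_mem_of_inv hW k hw), hfP u hu]
        exact ⟨rfl, rfl⟩
    rw [map_add, (hk r).1, (hk r).2, h.pow]
    rfl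
  obtain ⟨o, ho, hor⟩ := exists_orth hiso hpow
  refine ⟨o, hor, ?_⟩
  rw [ho]
  let T : W →ₗ[F] V := (f' - 1).comp W.subtype
  have hT : Function.Injective T := (injective_iff_map_eq_zero T).mpr fun w hw => by
    have h1 : f' (w : V) - w = 0 := hw
    rw [hfW _ w.2, sub_eq_zero] at h1
    have hmem : (w : V) ∈ LinearMap.range (f - 1) ⊓ End.eigenspace f (1 : F) :=
      ⟨hWX w.2, End.mem_eigenspace_iff.mpr (by rw [one_smul]; exact h1)⟩
    rw [hXE, Submodule.mem_bot] at hmem
    exact Subtype.ext hmem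
  refine le_antisymm ?_ ?_
  · rw [← hWd]
    refine Submodule.finrank_mono ?_
    rintro _ ⟨v, rfl⟩
    obtain ⟨w, hw, u, hu, rfl⟩ := hdec v
    rw [LinearMap.sub_apply, Module.End.one_apply, map_add, hfW w hw, hfP u hu, add_sub_add_right_eq_sub]
    exact W.sub_mem (hW.mem hw) hw
  · rw [← hWd, ← LinearMap.finrank_range_of_inj hT]
    exact Submodule.finrank_mono (LinearMap.range_comp_le_range _ _)

omit [Fintype F] in
/-- A Siegel element. -/
theorem exists_siegel [Finite F] (p : ℕ) [Fact p.Prime] [CharP F p] (hQ : Forms.Nondeg Q)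
    (h5 : 5 ≤ finrank F V) :
    ∃ o : Forms.orth Q, o ^ p = 1 ∧ finrank F (LinearMap.range ((o.1 : Module.End F V) - 1)) = 2 ∧
      ∀ u v, polar Q (((o.1 : Module.End F V) - 1) u) (((o.1 : Module.End F V) - 1) v) = 0 := by
  obtain ⟨e, f₀, hp⟩ := OrthOmega.exists_hyp hQ (by omega)
  obtain ⟨⟨u, hu⟩, hu0, huQ⟩ := OrthOmega.exists_singular (hp.nondeg_core hQ) (by
    have := hp.finrank_core (F := F)
    omega)
  have hu0' : u ≠ 0 := fun h => hu0 (Subtype.ext h)
  have huQ' : Q u = 0 := huQ
  obtain ⟨y, hy⟩ := OrthOmega.exists_polar_eq_one (hp.nondeg_core hQ) hu0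
  have hs : OrthOmega.SPair Q e u := ⟨hp.left, (mem_core.mp hu).1⟩
  have hk : ∀ k : ℕ, OrthOmega.rho hs ^ k = OrthOmega.rho (hs.smul (k : F)) := by
    intro k
    induction k with
    | zero =>
      rw [pow_zero]
      exact (OrthOmega.orth_ext fun x => by simp [OrthOmega.rho_apply]).symm
    | succ k ih =>
      rw [pow_succ, ih, OrthOmega.rho_mul]
      exact OrthOmega.rho_congr _ _ rfl (by rw [Nat.cast_succ, add_smul, one_smul])
  have hT : ∀ x, (((OrthOmega.rho hs).1 : Module.End F V) - 1) x = polar Q e x • u - polar Q u x • e := fun x => by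
    rw [LinearMap.sub_apply, LinearEquiv.coe_coe, OrthOmega.rho_apply, Module.End.one_apply, huQ', zero_mul,
      add_zero]
    abel
  refine ⟨OrthOmega.rho hs, ?_, ?_, fun v w => ?_⟩
  · rw [hk]
    exact OrthOmega.orth_ext fun x => by simp [OrthOmega.rho_apply]
  · refine le_antisymm ?_ ?_
    · refine (Submodule.finrank_mono (t := Submodule.span F (Set.range ![u, e])) ?_).trans
        ((finrank_range_le_card _).trans (Fintype.card_fin 2).le)
      rintro _ ⟨x, rfl⟩
      rw [hT]
      exact Submodule.sub_mem _ (Submodule.smul_mem _ _ (Submodule.subset_span ⟨0, rfl⟩))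
        (Submodule.smul_mem _ _ (Submodule.subset_span ⟨1, rfl⟩))
    · have hli : LinearIndependent F ![u, e] := by
        rw [LinearIndependent.pair_iff' hu0']
        intro c hc
        have h1 := congrArg (fun z => polar Q f₀ z) hc
        simp only [polar_smul_right, (mem_core.mp hu).2, smul_zero, hp.pol'] at h1
        exact zero_ne_one h1
      refine le_trans (by rw [finrank_span_eq_card hli, Fintype.card_fin]) (Submodule.finrank_mono
        (s := Submodule.span F (Set.range ![u, e])) (Submodule.span_le.mpr ?_))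
      rintro _ ⟨j, rfl⟩
      fin_cases j
      · refine ⟨f₀, ?_⟩
        rw [hT, hp.pol, (polar_comm Q u f₀).trans (mem_core.mp hu).2]
        simp
      · refine ⟨-(y : V), ?_⟩
        rw [hT, polar_neg_right, polar_neg_right, (mem_core.mp y.2).1,
          show polar Q u (y : V) = 1 from hy]
        simp
  · rw [hT, hT]
    simp [polar_sub_left, polar_sub_right, polar_smul_left, polar_smul_right, hs.self, hs.perp, hs.perp',
      polar_self' Q u, huQ']

end Cfsg.Agent.Lib.Elusive.ExtFieldOrth
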